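import Cfsg.Agent.H949.GT.Setup

/-!
# S5211: `StNeg` and `StTorus` (helper949)
-/

set_option autoImplicit false

namespace Cfsg.Agent.H949.GT

open Cfsg Cfsg.FusionSystem Cfsg.Agent.H756.PU Cfsg.Agent.H802 Cfsg.Agent.H52.PU
open Cfsg.Agent.LieClassical.SLTwoUnipotent
open Cfsg.Agent.H302.PU Cfsg.Agent.H779.G2

universe u

/-- the diagonal torus of `SL₂(F)` -/
def dg {F : Type*} [Field F] : Fˣ →* Matrix.SpecialLinearGroup (Fin 2) F where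
  toFun l := ⟨!![(l : F), 0; 0, ((l⁻¹ : Fˣ) : F)], by simp [Matrix.det_fin_two]⟩
  map_one' := by
    apply ext_coe
    rw [coe_one]
    simp
  map_mul' a b := by
    apply ext_coe
    show (!![((a * b : Fˣ) : F), 0; 0, (((a * b)⁻¹ : Fˣ) : F)] : Matrix (Fin 2) (Fin 2) F) =
      !![(a : F), 0; 0, ((a⁻¹ : Fˣ) : F)] * !![(b : F), 0; 0, ((b⁻¹ : Fˣ) : F)]
    ext i j
    fin_cases i <;> fin_cases j <;> simp [Matrix.mul_apply, Fin.sum_univ_two, mul_comm]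

theorem coe_dg {F : Type*} [Field F] (l : Fˣ) :
    ((dg l : Matrix.SpecialLinearGroup (Fin 2) F) : Matrix (Fin 2) (Fin 2) F) = !![(l : F), 0; 0, ((l⁻¹ : Fˣ) : F)] := rfl

theorem orderOf_dg {F : Type*} [Field F] [Fintype F] {p : ℕ} [hp : Fact p.Prime] [CharP F p] (l : Fˣ) :
    (orderOf (dg l : Matrix.SpecialLinearGroup (Fin 2) F)).Coprime p := by
  classical
  obtain ⟨n, -, hn⟩ := FiniteField.card F p
  have h1 : orderOf (dg l : Matrix.SpecialLinearGroup (Fin 2) F) ∣ p ^ (n : ℕ) - 1 := by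
    refine (orderOf_map_dvd dg l).trans ?_
    rw [← hn, ← Fintype.card_units]
    exact orderOf_dvd_card
  refine Nat.Coprime.coprime_dvd_left h1 ?_
  rw [Nat.coprime_comm, Nat.Prime.coprime_iff_not_dvd hp.out]
  intro h2
  have h3 : p ∣ p ^ (n : ℕ) := dvd_pow_self p n.ne_zero
  have h4 : 1 ≤ p ^ (n : ℕ) := Nat.one_le_pow _ _ hp.out.pos
  have h5 : p ∣ 1 := by
    have := Nat.dvd_sub h3 h2
    rwa [Nat.sub_sub_self h4] at this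
  exact hp.out.one_lt.ne' (Nat.dvd_one.1 h5)

theorem dg_mul_u {F : Type*} [Field F] (l : Fˣ) (b : F) :
    (dg l : Matrix.SpecialLinearGroup (Fin 2) F) * u b = u ((l : F) ^ 2 * b) * dg l := by
  apply ext_coe
  rw [coe_mul, coe_mul, coe_dg, coe_u, coe_u]
  ext i j
  fin_cases i <;> fin_cases j <;> simp [Matrix.mul_apply, Fin.sum_univ_two]
  field_simp

theorem dg_norm {F : Type*} [Field F] (l : Fˣ) (b : F) :
    (dg l : Matrix.SpecialLinearGroup (Fin 2) F) * u b * (dg l)⁻¹ ∈ upperUnipSL F := by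
  rw [dg_mul_u, mul_inv_cancel_right]
  exact u_mem_upperUnipSL _

section

variable {Ω : Type u} [Group Ω] {M : Subgroup Ω} {F : Type} [Field F]

/-- `ψ` as a homomorphism -/
def psiHom (ψ : M → Fin 2 → F) (hψ : ∀ x y, ψ (x * y) = ψ x + ψ y) : M →* Multiplicative (Fin 2 → F) where
  toFun x := Multiplicative.ofAdd (ψ x)
  map_one' := by
    have h1 := hψ 1 1
    rw [mul_one] at h1
    have h2 : ψ 1 = 0 := by simpa using h1
    rw [h2]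
    rfl
  map_mul' x y := by rw [hψ]; rfl

/-- the kernel -/
def DK (ψ : M → Fin 2 → F) (hψ : ∀ x y, ψ (x * y) = ψ x + ψ y) : Subgroup Ω := (psiHom ψ hψ).ker.map M.subtype

theorem mem_DK {ψ : M → Fin 2 → F} {hψ : ∀ x y, ψ (x * y) = ψ x + ψ y} (x : M) : (x : Ω) ∈ DK ψ hψ ↔ ψ x = 0 := by
  constructor
  · rintro ⟨y, hy, hyx⟩
    have : y = x := Subtype.ext hyx
    subst this
    exact hy
  · intro h
    exact ⟨x, h, rfl⟩

theorem DK_le (ψ : M → Fin 2 → F) (hψ : ∀ x y, ψ (x * y) = ψ x + ψ y) : DK ψ hψ ≤ M := Subgroup.map_subtype_le _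

theorem relIndex_DK [Fintype F] {ψ : M → Fin 2 → F} {hψ : ∀ x y, ψ (x * y) = ψ x + ψ y}
    (hs : Function.Surjective ψ) : (DK ψ hψ).relIndex M = Fintype.card F ^ 2 := by
  have h1 : (DK ψ hψ).subgroupOf M = (psiHom ψ hψ).ker := by
    ext x
    rw [Subgroup.mem_subgroupOf, mem_DK]
    exact Iff.rfl
  rw [Subgroup.relIndex, h1, Subgroup.index_ker]
  have h2 : (psiHom ψ hψ).range = ⊤ := by
    rw [MonoidHom.range_eq_top]
    intro y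
    obtain ⟨x, hx⟩ := hs (Multiplicative.toAdd y)
    exact ⟨x, congrArg Multiplicative.ofAdd hx⟩
  rw [h2, Nat.card_congr (Subgroup.topEquiv.toEquiv.trans Multiplicative.toAdd), Nat.card_eq_fintype_card,
    Fintype.card_fun, Fintype.card_fin]

end

theorem cmod_le {Ω : Type u} [Group Ω] (A M N : Subgroup Ω) : cmod A M N ≤ M :=
  (Subgroup.closure_le _).2 fun _ hx => hx.1

/-- (NEG) -/
theorem stNeg : StNeg.{u} := by
  intro Ω _ S E p Γ h hp2 N M X A hN hM hNM hXM hEM hMp hgen hXS hA hAE hAA hAp hAM hAN hcard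
  have hfp : Fact p.Prime := ⟨h.pp⟩
  obtain ⟨F, hF1, hF2, ψ, hchar, hq, hmul, hsurj, -, hψN, hψΓ, hψS, hlift⟩ :=
    setup h hN hM hNM hXM hEM hMp hgen hXS hA hAE hAA hAp hAM hAN hcard
  obtain ⟨γ, hγL, hγo, -, hγM, hγD, hγc⟩ := hlift (dg (-1)) (fun b => dg_norm _ b) (orderOf_dg _)
  refine ⟨DK ψ hmul, ⟨(DK_le _ _).trans hM.1, fun g hg e he => ?_⟩, fun x hx => ?_, DK_le _ _, fun n hn x hx => ?_, ?_,
    γ.1, hγL, hγo, hγc fun b => ?_, fun m hm => ?_, fun m hm => ?_⟩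
  · have heM : (e : Ω) ∈ M := DK_le _ _ he
    exact (mem_DK (hψ := hmul) (resAct hM ⟨g, hg⟩ ⟨e, heM⟩)).2
      (hψΓ ⟨g, hg⟩ ⟨e, heM⟩ ((mem_DK (hψ := hmul) ⟨(e : Ω), heM⟩).1 he))
  · exact (mem_DK (hψ := hmul) ⟨x, hNM hx⟩).2 (hψN ⟨x, hNM hx⟩ hx)
  · exact hψS ⟨x, DK_le _ _ hx⟩ ((mem_DK (hψ := hmul) ⟨x, DK_le _ _ hx⟩).1 hx) n hn
  · rw [relIndex_DK hsurj, hq]
  · rw [dg_mul_u]
    congr 2
    simp
  · refine (mem_DK (hψ := hmul) (resAct hM γ ⟨m, hm⟩ * ⟨m, hm⟩)).2 ?_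
    rw [hmul, hγM, coe_dg]
    ext i
    fin_cases i <;> simp [dotProduct, Fin.sum_univ_two]
  · exact hγD ⟨m, DK_le _ _ hm⟩ ((mem_DK (hψ := hmul) ⟨(m : Ω), DK_le _ _ hm⟩).1 hm)

/-- (TORUS) -/
theorem stTorus : StTorus.{u} := by
  classical
  intro Ω _ S E p Γ h N M X A hN hM hNM hXM hEM hMp hgen hXS hA hAE hAA hAp hAM hAN hcard
  have hfp : Fact p.Prime := ⟨h.pp⟩
  obtain ⟨F, hF1, hF2, ψ, hchar, hq, hmul, hsurj, hψC, hψN, hψΓ, hψS, hlift⟩ :=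
    setup h hN hM hNM hXM hEM hMp hgen hXS hA hAE hAA hAp hAM hAN hcard
  have hcM := cmod_le A M N
  have hex : ∀ i : Fin 2, ∃ f : Ω → F, ∀ (x : Ω) (hx : x ∈ M), f x = ψ ⟨x, hx⟩ i := fun i =>
    ⟨fun x => if hx : x ∈ M then ψ ⟨x, hx⟩ i else 0, fun x hx => dif_pos hx⟩
  obtain ⟨φ₁, hφ₁⟩ := hex 0
  obtain ⟨φ₂, hφ₂⟩ := hex 1
  refine ⟨DK ψ hmul, ⟨(DK_le _ _).trans hM.1, fun g hg e he => ?_⟩, fun x hx => ?_, fun x hx => ?_, hcM,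
    fun n hn x hx => ?_, ?_, F, hF1, hF2, φ₁, φ₂, hq,
    hchar, fun x hx y hy => ?_, fun x hx => ?_, fun x hx y hy => ?_, fun x hx => ?_, fun l hl => ?_⟩
  · have heM : (e : Ω) ∈ M := DK_le _ _ he
    exact (mem_DK (hψ := hmul) (resAct hM ⟨g, hg⟩ ⟨e, heM⟩)).2
      (hψΓ ⟨g, hg⟩ ⟨e, heM⟩ ((mem_DK (hψ := hmul) ⟨(e : Ω), heM⟩).1 he))
  · exact (mem_DK (hψ := hmul) ⟨x, hNM hx⟩).2 (hψN ⟨x, hNM hx⟩ hx)
  · have hxM := DK_le _ _ hx
    refine (hψC ⟨x, hxM⟩).1 ?_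
    rw [(mem_DK (hψ := hmul) ⟨x, hxM⟩).1 hx]
    rfl
  · exact hψS ⟨x, DK_le _ _ hx⟩ ((mem_DK (hψ := hmul) ⟨x, DK_le _ _ hx⟩).1 hx) n hn
  · rw [relIndex_DK hsurj, hq]
  · have hx' := hcM hx
    have hy' := hcM hy
    rw [hφ₁ x hx', hφ₁ y hy', hφ₁ _ (M.mul_mem hx' hy')]
    exact congrFun (hmul ⟨x, hx'⟩ ⟨y, hy'⟩) 0
  · have hx' := hcM hx
    rw [hφ₁ x hx', mem_DK (hψ := hmul) ⟨x, hx'⟩]
    have h1 := (hψC ⟨x, hx'⟩).2 hx
    constructor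
    · intro h0
      ext i
      fin_cases i
      · exact h0
      · exact h1
    · intro h0
      rw [h0]
      rfl
  · rw [hφ₂ x hx, hφ₂ y hy, hφ₂ _ (M.mul_mem hx hy)]
    exact congrFun (hmul ⟨x, hx⟩ ⟨y, hy⟩) 1
  · rw [hφ₂ x hx]
    exact hψC ⟨x, hx⟩
  · obtain ⟨γ, hγL, hγo, hγN, hγM, hγD, hγc⟩ := hlift (dg (Units.mk0 l hl)) (fun b => dg_norm _ b) (orderOf_dg _)
    have hM' : ∀ m : E, (m : Ω) ∈ M → ((γ.1 m : E) : Ω) ∈ M := fun m hm => hM.2 γ.1 γ.2 m hm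
    have hact : ∀ (m : E) (hm : (m : Ω) ∈ M) (i : Fin 2), ψ ⟨((γ.1 m : E) : Ω), hM' m hm⟩ i =
        ((dg (Units.mk0 l hl) : Matrix.SpecialLinearGroup (Fin 2) F) : Matrix (Fin 2) (Fin 2) F).mulVec
          (ψ ⟨m, hm⟩) i := fun m hm i => congrFun (hγM ⟨m, hm⟩) i
    refine ⟨γ.1, hγL, γ.2, hγo, hγN, fun m hm => ?_, fun m hm => ?_⟩
    · have hm' := hcM hm
      rw [hφ₁ _ hm', hφ₁ _ (hM' m hm'), hact m hm', coe_dg]
      simp [Matrix.mulVec, dotProduct, Fin.sum_univ_two]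
    · rw [hφ₂ _ hm, hφ₂ _ (hM' m hm), hact m hm, coe_dg]
      simp [Matrix.mulVec, dotProduct, Fin.sum_univ_two]

end Cfsg.Agent.H949.GT
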