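import Cfsg.Agent.H949.GT.RankGe
import Cfsg.Agent.H103.GT.UTwoP

/-!
# S5211, the short root parabolic (helper949): the rank one property, `q = p ≥ 11`, and the final theorem
-/

set_option autoImplicit false

namespace Cfsg.Agent.H949.GT

open Cfsg Cfsg.FusionSystem Cfsg.Agent.H756.PU Cfsg.Agent.H779.G2 Cfsg.Agent.H103.GT Cfsg.Agent.H802 Matrix

universe u

/-- not `Cfsg.GU` -/
local notation "GU" => Cfsg.Agent.H779.G2.GU

variable {K : Type u} [Field K] {p n : ℕ} {Γ : Subgroup (MulAut (Qa K))} {D : Subgroup (MulAut (GU K))}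

/-- Frattini -/
theorem frattini_fac {G : Type*} [Group G] [Finite G] {p : ℕ} [Fact p.Prime] (A : Subgroup G)
    (hA : ∀ g : G, ∀ x ∈ A, g * x * g⁻¹ ∈ A) (T : Sylow p G) (hTA : (T : Subgroup G) ≤ A) (g : G) :
    ∃ a ∈ A, ∃ n ∈ Subgroup.normalizer ((T : Subgroup G) : Set G), g = a * n := by
  have hsm : ((g • T : Sylow p G) : Subgroup G) = (T : Subgroup G).map (MulAut.conj g).toMonoidHom := by
    rw [Sylow.coe_subgroup_smul]
    rfl
  have h2 : ((g • T : Sylow p G) : Subgroup G) ≤ A := by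
    rw [hsm]
    rintro _ ⟨x, hx, rfl⟩
    exact hA g x (hTA hx)
  obtain ⟨b, hb, hT⟩ := EvenType.StrongP.sylow_conj_in (Y := A) T (g • T) hTA h2
  refine ⟨b, hb, b⁻¹ * g, ?_, by group⟩
  rw [EvenType.StrongP.mem_norm, EvenType.StrongP.map_conj_mul, ← hsm, ← hT, ← EvenType.StrongP.map_conj_mul,
    inv_mul_cancel, EvenType.StrongP.map_conj_one]

/-- `γ` preserves `Z₃` -/
def PZ3 (γ : MulAut (Qa K)) : Prop := ∀ e : Qa K, (e : GU K) ∈ Z3 K → ((γ e : Qa K) : GU K) ∈ Z3 K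

theorem PZ3.mul {γ γ' : MulAut (Qa K)} (h : PZ3 γ) (h' : PZ3 γ') : PZ3 (γ * γ') := fun e he => h _ (h' e he)

theorem PZ3.of_acts {γ : MulAut (Qa K)} {M : Matrix (Fin 4) (Fin 4) K} {τ : K ≃+* K} {m : K} (h : Acts γ M τ m)
    (hM : ∀ i j : Fin 4, (i : ℕ) < 2 → 2 ≤ (j : ℕ) → M i j = 0) : PZ3 γ := by
  rintro e ⟨h1, h2, h3⟩
  have hco : ∀ i : Fin 4, (i : ℕ) < 2 → co ((γ e : Qa K) : GU K) i = 0 := by
    intro i hi
    rw [h.V, Matrix.mulVec, dotProduct, Fin.sum_univ_four, hM i 2 hi (by decide), hM i 3 hi (by decide)]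
    simp [co, h2, h3]
  exact ⟨(γ e).2, hco 0 (by decide), hco 1 (by decide)⟩

theorem PZ3_norm (hK : HypG K p n) (h3 : p ≠ 3) (hP : Par p (Qa K) Γ D) {γ : Γ}
    (hγ : γ ∈ Subgroup.normalizer ((TG Γ : Subgroup Γ) : Set Γ)) : PZ3 γ.1 := by
  obtain ⟨c, hc, δ, hδ, rfl⟩ := norm_dec hP hK hγ
  obtain ⟨a, ha⟩ := acts_TG hc
  obtain ⟨d, -, s, t, τ, -, -, h⟩ := acts_DG hK h3 hP hδ
  refine PZ3.mul (γ := c.1) (γ' := δ.1) (PZ3.of_acts ha ?_) (PZ3.of_acts h ?_)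
  · intro i j hi hj
    fin_cases i <;> fin_cases j
    all_goals first
      | rfl
      | exact absurd hi (by decide)
      | exact absurd hj (by decide)
  · intro i j hi hj
    refine Matrix.diagonal_apply_ne _ ?_
    rintro rfl
    omega

theorem R1_eq1 (hU : StU2PW.{u}) (hK : HypG K p 1) (h11 : 11 ≤ p) (hP : Par p (Qa K) Γ D)
    (hact : ∀ γ ∈ Γ, ∃ M τ m, m ≠ 0 ∧ Acts γ M τ m) (hZ2 : ¬ Inv Γ (Z2 K)) (hZ3 : ¬ Inv Γ (Z3 K)) : R1 (TG Γ) := by
  have hfin := hK.fin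
  have hfp : Fact p.Prime := ⟨hK.pp⟩
  have h3 : p ≠ 3 := by omega
  obtain ⟨T, hT⟩ := exists_sylowP hK hP
  have hT' : (T : Subgroup Γ) = TG Γ := hT
  have hTA : (T : Subgroup Γ) ≤ G0 Γ := by
    rw [hT']
    exact TG_le_G0
  have hA : ∀ g : Γ, ∀ x ∈ G0 Γ, g * x * g⁻¹ ∈ G0 Γ := fun g x hx => G0_conj hact g hx
  obtain ⟨r, hr⟩ : ∃ r : G0 Γ →* (lin Γ).range, r = (lin Γ).rangeRestrict := ⟨_, rfl⟩
  have hrs : Function.Surjective r := by
    rw [hr]
    exact MonoidHom.rangeRestrict_surjective _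
  have hrc : ∀ x, ((r x : (lin Γ).range) : GL (Fin 4) K) = lin Γ x := fun x => by rw [hr]; rfl
  have hrk : r.ker = (K0 Γ).subgroupOf (G0 Γ) := by
    rw [hr, MonoidHom.ker_rangeRestrict, lin_ker]
  obtain ⟨P, hPdef⟩ : ∃ P : Sylow p (lin Γ).range, P = (T.subtype hTA).mapSurjective hrs := ⟨_, rfl⟩
  have hPc : (P : Subgroup (lin Γ).range) = ((TG Γ).subgroupOf (G0 Γ)).map r := by
    rw [hPdef, Sylow.coe_mapSurjective, Sylow.coe_subtype, hT']
  have hcom : (P : Subgroup (lin Γ).range).comap r = (TG Γ).subgroupOf (G0 Γ) := by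
    rw [hPc, Subgroup.comap_map_eq, hrk, sup_eq_left]
    exact Subgroup.comap_mono (K0_le hK hP hact)
  have hmem : ∀ g : (lin Γ).range, g ∈ (P : Subgroup (lin Γ).range) ↔
      ∃ t : K, ((g : GL (Fin 4) K) : Matrix (Fin 4) (Fin 4) K) = Xm t := by
    intro g
    constructor
    · intro hg
      rw [hPc] at hg
      obtain ⟨c, hc, rfl⟩ := hg
      obtain ⟨a, ha⟩ := acts_TG (Γ := Γ) (c := c.1) hc
      refine ⟨a, ?_⟩
      rw [hrc]
      exact (lin_acts c).uniq_lin ha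
    · rintro ⟨t, ht⟩
      have h1 : cN hP ⟨t, 0, 0, 0, 0, 0⟩ ∈ TG Γ := (mem_TG' hP).2 ⟨_, rfl⟩
      have h2 : g = r ⟨cN hP ⟨t, 0, 0, 0, 0, 0⟩, TG_le_G0 h1⟩ := by
        apply Subtype.ext
        apply Units.ext
        rw [hrc, ht]
        exact (acts_conj (cN_isC hP ⟨t, 0, 0, 0, 0, 0⟩)).uniq_lin
          (lin_acts (⟨cN hP ⟨t, 0, 0, 0, 0, 0⟩, TG_le_G0 h1⟩ : G0 Γ))
      rw [hPc, h2]
      exact ⟨_, h1, rfl⟩
  have hfinL : Finite (lin Γ).range := inferInstance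
  have hcardP : Nat.card (P : Subgroup (lin Γ).range) ≤ p := by
    have h1 : ∀ g : (P : Subgroup (lin Γ).range), ∃ t : K, (((g : (lin Γ).range) : GL (Fin 4) K) :
        Matrix (Fin 4) (Fin 4) K) = Xm t := fun g => (hmem g.1).1 g.2
    choose t ht using h1
    have h2 : Function.Injective t := by
      intro g g' h
      have h3 := (ht g).trans ((congrArg Xm h).trans (ht g').symm)
      exact Subtype.ext (Subtype.ext (Units.ext h3))
    have h4 := Nat.card_le_card_of_injective t h2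
    rwa [hK.card, pow_one] at h4
  have key := hU hK h11 (lin Γ).range
    (by
      rintro _ ⟨γ, rfl⟩
      exact lin_form γ)
    (by
      intro hdvd
      have h1 := P.pow_dvd_card_of_pow_dvd_card hdvd
      have h2 := Nat.le_of_dvd Nat.card_pos h1
      have h4 : p ^ 2 ≤ p := h2.trans hcardP
      nlinarith)
    P hmem
    (by
      intro hnor
      apply hP.nn
      intro γ hγ
      refine (normAut_iff hK hP ⟨γ, hγ⟩).2 ?_
      obtain ⟨a, ha, m, hm, h1⟩ := frattini_fac (G0 Γ) hA T hTA ⟨γ, hγ⟩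
      rw [h1]
      rw [hT'] at hm
      refine Subgroup.mul_mem _ ?_ hm
      have h2 : ((TG Γ).subgroupOf (G0 Γ)).Normal := by
        rw [← hcom]
        exact hnor.comap r
      rw [Subgroup.mem_normalizer_iff]
      intro x
      constructor
      · intro hx
        exact h2.conj_mem ⟨x, TG_le_G0 hx⟩ hx ⟨a, ha⟩
      · intro hx
        have h4 := h2.conj_mem ⟨a * x * a⁻¹, TG_le_G0 hx⟩ hx ⟨a⁻¹, (G0 Γ).inv_mem ha⟩
        have h5 : a⁻¹ * (a * x * a⁻¹) * a⁻¹⁻¹ ∈ TG Γ := h4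
        have e : a⁻¹ * (a * x * a⁻¹) * a⁻¹⁻¹ = x := by group
        rwa [e] at h5)
    (by
      by_contra hcon
      push Not at hcon
      apply hZ2
      refine ⟨Z2_le_Qa, fun γ hγ e he => ?_⟩
      suffices h : PZ γ from h e he
      obtain ⟨a, ha, m, hm, h1⟩ := frattini_fac (G0 Γ) hA T hTA ⟨γ, hγ⟩
      rw [hT'] at hm
      have h2 : γ = a.1 * m.1 := congrArg Subtype.val h1
      rw [h2]
      refine PZ.mul ?_ (PZ_norm hK h3 hP hm)
      exact PZ.of_acts (lin_acts ⟨a, ha⟩) fun i hi => hcon _ ⟨⟨a, ha⟩, rfl⟩ i hi)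
    (by
      by_contra hcon
      push Not at hcon
      apply hZ3
      refine ⟨Z3_le_Qa, fun γ hγ e he => ?_⟩
      suffices h : PZ3 γ from h e he
      obtain ⟨a, ha, m, hm, h1⟩ := frattini_fac (G0 Γ) hA T hTA ⟨γ, hγ⟩
      rw [hT'] at hm
      have h2 : γ = a.1 * m.1 := congrArg Subtype.val h1
      rw [h2]
      refine PZ3.mul ?_ (PZ3_norm hK h3 hP hm)
      exact PZ3.of_acts (lin_acts ⟨a, ha⟩) fun i j hi hj => hcon _ ⟨⟨a, ha⟩, rfl⟩ i j hi hj)
  have h1 := R1.of_sylow P key.1 key.2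
  have h2 := h1.comap r hrs
  rw [hcom, ← hT'] at h2
  have h4 := R1.extend (G0 Γ) hA T hTA h2
  rwa [hT'] at h4

/-- **the short root parabolic, `p ≥ 5`** -/
theorem stLa5 (hAlg : StWAlg.{u}) (hWF : StWFin1.{u}) (hSem : StSem.{u}) (hTI : StTI.{u}) (hU2 : StU2W.{u})
    (hU2P : StU2PW.{u}) : StLaP.{u} (fun p _ => 5 ≤ p) := by
  intro K _ p n hK h5 hq Γ D hP hTor hZ2 hZ3
  have h5' : 5 ≤ p := h5
  have h3 : p ≠ 3 := by omega
  have hact : ∀ γ ∈ Γ, ∃ M τ m, m ≠ 0 ∧ Acts γ M τ m := fun γ _ => exists_acts hSem hK h3 γ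
  have hTIΓ := (hTI hK (by omega) (Qa K) (Or.inl rfl)).1 Γ hP.indu hP.syl
  have hR : R1 (TG Γ) := by
    rcases Nat.lt_or_ge n 2 with hn | hn
    · have hn1 : n = 1 := by
        have := hK.hn
        omega
      subst hn1
      rw [pow_one] at hq
      have h11 : 11 ≤ p := by
        by_contra hlt
        have hpp := hK.pp
        interval_cases p
        · exact absurd hpp (by decide)
        · exact absurd hpp (by decide)
        · exact absurd hpp (by decide)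
      exact R1_eq1 hU2P hK h11 hP hact hZ2 hZ3
    · exact R1_ge2 hU2 hK h5' hn hP hTIΓ hact hTor
  exact la_of_R1 hAlg hWF hSem hTI hK h3 hq hP hR hTor hZ2

end Cfsg.Agent.H949.GT
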