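import Cfsg.Agent.H779.G2.Stmts3
import Cfsg.Agent.H103.GT.Grp
import Cfsg.Agent.H103.GT.Coord
import Cfsg.Agent.H802.FusEss

/-!
# S5211, the short root parabolic (helper949): the action on `Q_a / Z₁`

`Acts γ M τ m` : `γ` acts on `Q_a / Z₁ = K⁴` as `M τ` and on `Z₁` as `m τ`.
-/

set_option autoImplicit false

namespace Cfsg.Agent.H949.GT

open Cfsg Cfsg.FusionSystem Cfsg.Agent.H756.PU Cfsg.Agent.H779.G2 Cfsg.Agent.H103.GT Cfsg.Agent.H802 Matrix

universe u

variable {K : Type u} [Field K]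

/-- the coordinates on `Q_a / Z₁` -/
def co (g : GU K) : Fin 4 → K := ![g.b, g.c, g.d, g.e]

theorem co_surj (v : Fin 4 → K) : ∃ g : Qa K, co (g : GU K) = v := by
  refine ⟨⟨⟨0, v 0, v 1, v 2, v 3, 0⟩, rfl⟩, ?_⟩
  ext i
  fin_cases i <;> rfl

theorem co_eq_zero {g : Qa K} : co (g : GU K) = 0 ↔ (g : GU K) ∈ Z1 K := by
  constructor
  · intro h
    exact ⟨g.2, congrFun h 0, congrFun h 1, congrFun h 2, congrFun h 3⟩
  · rintro ⟨-, h1, h2, h3, h4⟩
    ext i
    fin_cases i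
    · exact h1
    · exact h2
    · exact h3
    · exact h4

/-- `γ` acts on `Q_a / Z₁` as `M τ` and on `Z₁` as `m τ` -/
structure Acts (γ : MulAut (Qa K)) (M : Matrix (Fin 4) (Fin 4) K) (τ : K ≃+* K) (m : K) : Prop where
  V : ∀ g : Qa K, co ((γ g : Qa K) : GU K) = M.mulVec (fun i => τ (co (g : GU K) i))
  Z : ∀ g : Qa K, (g : GU K) ∈ Z1 K → ((γ g : Qa K) : GU K) ∈ Z1 K ∧ ((γ g : Qa K) : GU K).f = m * τ (g : GU K).f

theorem exists_acts (hSem : StSem.{u}) {p n : ℕ} (hK : HypG K p n) (h3 : p ≠ 3) (γ : MulAut (Qa K)) :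
    ∃ M τ m, m ≠ 0 ∧ Acts γ M τ m := by
  obtain ⟨τ, M, m, hm, h1, h2, h4, h5, h6⟩ := hSem hK h3 γ
  refine ⟨M, τ, m, hm, fun g => ?_, h6⟩
  ext i
  fin_cases i
  · show ((γ g : Qa K) : GU K).b = _
    rw [h1]
    simp [Matrix.mulVec, dotProduct, Fin.sum_univ_four, co]
  · show ((γ g : Qa K) : GU K).c = _
    rw [h2]
    simp [Matrix.mulVec, dotProduct, Fin.sum_univ_four, co]
  · show ((γ g : Qa K) : GU K).d = _
    rw [h4]
    simp [Matrix.mulVec, dotProduct, Fin.sum_univ_four, co]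
  · show ((γ g : Qa K) : GU K).e = _
    rw [h5]
    simp [Matrix.mulVec, dotProduct, Fin.sum_univ_four, co]

theorem Acts.one : Acts (1 : MulAut (Qa K)) 1 (RingEquiv.refl K) 1 where
  V g := by
    rw [Matrix.one_mulVec]
    rfl
  Z g hg := ⟨hg, by simp⟩

theorem Acts.mul {γ γ' : MulAut (Qa K)} {M M' : Matrix (Fin 4) (Fin 4) K} {τ τ' : K ≃+* K} {m m' : K}
    (h : Acts γ M τ m) (h' : Acts γ' M' τ' m') : Acts (γ * γ') (M * M'.map τ) (τ'.trans τ) (m * τ m') where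
  V g := by
    rw [MulAut.mul_apply, h.V, h'.V, ← Matrix.mulVec_mulVec]
    congr 1
    ext i
    simp only [Matrix.mulVec, dotProduct, map_sum, map_mul, Matrix.map_apply, RingEquiv.coe_trans, Function.comp_apply]
  Z g hg := by
    obtain ⟨h1, h2⟩ := h'.Z g hg
    obtain ⟨h3, h4⟩ := h.Z _ h1
    refine ⟨h3, ?_⟩
    rw [MulAut.mul_apply, h4, h2]
    simp only [map_mul, RingEquiv.coe_trans, Function.comp_apply]
    ring

/-- `K`-linear, trivial on `Z₁` -/
theorem Acts.mul' {γ γ' : MulAut (Qa K)} {M M' : Matrix (Fin 4) (Fin 4) K} {m m' : K}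
    (h : Acts γ M (RingEquiv.refl K) m) (h' : Acts γ' M' (RingEquiv.refl K) m') :
    Acts (γ * γ') (M * M') (RingEquiv.refl K) (m * m') := by
  have h1 := h.mul h'
  have e1 : M'.map (RingEquiv.refl K) = M' := by
    ext i j
    rfl
  have e2 : (RingEquiv.refl K).trans (RingEquiv.refl K) = RingEquiv.refl K := rfl
  rw [e1, e2] at h1
  exact h1

theorem Acts.uniq_lin {γ : MulAut (Qa K)} {M M' : Matrix (Fin 4) (Fin 4) K} {m m' : K}
    (h : Acts γ M (RingEquiv.refl K) m) (h' : Acts γ M' (RingEquiv.refl K) m') : M = M' := by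
  ext i j
  obtain ⟨g, hg⟩ := co_surj (K := K) (Pi.single j 1)
  have h1 := (h.V g).symm.trans (h'.V g)
  have h2 := congrFun h1 i
  rw [hg] at h2
  simpa [Matrix.mulVec, dotProduct, Pi.single_apply, apply_ite] using h2

theorem Acts.uniq {γ : MulAut (Qa K)} {M M' : Matrix (Fin 4) (Fin 4) K} {τ τ' : K ≃+* K} {m m' : K}
    (h : Acts γ M τ m) (h' : Acts γ M' τ' m') (i₀ j₀ : Fin 4) (h0 : M i₀ j₀ ≠ 0) : M = M' ∧ τ = τ' := by
  have key : ∀ (c : K) (i j : Fin 4), M i j * τ c = M' i j * τ' c := by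
    intro c i j
    obtain ⟨g, hg⟩ := co_surj (K := K) (Pi.single j c)
    have h1 := (h.V g).symm.trans (h'.V g)
    have h2 := congrFun h1 i
    rw [hg] at h2
    have h3 : ∀ (σ : K ≃+* K) (N : Matrix (Fin 4) (Fin 4) K),
        N.mulVec (fun k => σ ((Pi.single j c : Fin 4 → K) k)) i = N i j * σ c := by
      intro σ N
      have : (fun k => σ ((Pi.single j c : Fin 4 → K) k)) = Pi.single j (σ c) := by
        ext k
        by_cases hk : k = j
        · subst hk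
          simp
        · simp [Pi.single_eq_of_ne hk]
      rw [this]
      simp
    rw [h3, h3] at h2
    exact h2
  have hM : M = M' := by
    ext i j
    have := key 1 i j
    simpa using this
  refine ⟨hM, ?_⟩
  ext c
  have := key c i₀ j₀
  rw [← hM] at this
  exact mul_left_cancel₀ h0 this

/-- inverses of linear elements -/
theorem Acts.inv {γ : MulAut (Qa K)} {M M' : Matrix (Fin 4) (Fin 4) K} {τ τ' : K ≃+* K} {m m' : K}
    (h : Acts γ M τ m) (h' : Acts γ⁻¹ M' τ' m') : M * M'.map τ = 1 ∧ τ'.trans τ = RingEquiv.refl K := by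
  have h1 := h.mul h'
  rw [mul_inv_cancel] at h1
  obtain ⟨h2, h3⟩ := Acts.one.uniq h1 0 0 (by simp)
  exact ⟨h2.symm, h3.symm⟩

/-- the action of `Aut_S(Q_a)` -/
theorem acts_conj {x : GU K} {α : MulAut (Qa K)} (hα : IsC x α) : Acts α (Xm x.a) (RingEquiv.refl K) 1 where
  V g := by
    have hg : (g : GU K).a = 0 := g.2
    rw [hα g]
    ext i
    fin_cases i
    · simp [co, Xm, Matrix.mulVec, dotProduct, Fin.sum_univ_four]
    · simp [co, Xm, Matrix.mulVec, dotProduct, Fin.sum_univ_four, hg]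
      ring
    · simp [co, Xm, Matrix.mulVec, dotProduct, Fin.sum_univ_four, hg]
      ring
    · simp [co, Xm, Matrix.mulVec, dotProduct, Fin.sum_univ_four, hg]
      ring
  Z g hg := by
    obtain ⟨h1, h2, h3, h4, h5⟩ := hg
    rw [hα g]
    refine ⟨normal_Z1.conj_mem _ ⟨h1, h2, h3, h4, h5⟩ x, ?_⟩
    rw [cj_f, h1, h2, h3, h4, h5]
    simp

/-- the action of torus elements -/
theorem acts_tor {d : MulAut (GU K)} {s t : K} {τ : K ≃+* K} (hd : IsTor d s t τ) {γ : MulAut (Qa K)} (hγ : IsR d γ) :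
    Acts γ (Matrix.diagonal ![t, s * t, s ^ 2 * t, s ^ 3 * t]) τ (s ^ 3 * t ^ 2) where
  V g := by
    rw [hγ g]
    ext i
    rw [Matrix.mulVec_diagonal]
    fin_cases i
    · simp [co, hd.b]
    · simp [co, hd.c]
    · simp [co, hd.d]
    · simp [co, hd.e]
  Z g hg := by
    obtain ⟨h1, h2, h3, h4, h5⟩ := hg
    rw [hγ g]
    refine ⟨⟨?_, ?_, ?_, ?_, ?_⟩, hd.f _⟩
    · rw [hd.a, h1, map_zero, mul_zero]
    · rw [hd.b, h2, map_zero, mul_zero]
    · rw [hd.c, h3, map_zero, mul_zero]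
    · rw [hd.d, h4, map_zero, mul_zero]
    · rw [hd.e, h5, map_zero, mul_zero]

/-- the commutator form -/
theorem comm_form (g h : Qa K) : ((g * h * g⁻¹ * h⁻¹ : Qa K) : GU K) ∈ Z1 K ∧
    ((g * h * g⁻¹ * h⁻¹ : Qa K) : GU K).f = co (g : GU K) ⬝ᵥ (Om.mulVec (co (h : GU K))) := by
  have hg : (g : GU K).a = 0 := g.2
  have hh : (h : GU K).a = 0 := h.2
  refine ⟨com_Qa _ g.2 _ h.2, ?_⟩
  show ((g : GU K) * (h : GU K) * (g : GU K)⁻¹ * (h : GU K)⁻¹).f = _
  rw [cm_f, hg, hh]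
  simp [co, Om, Matrix.mulVec, dotProduct, Fin.sum_univ_four]
  ring

theorem Om_map (τ : K ≃+* K) : (Om : Matrix (Fin 4) (Fin 4) K).map τ = Om := by
  have h3 : τ 3 = 3 := map_ofNat τ 3
  ext i j
  fin_cases i <;> fin_cases j <;> simp [Om, h3]

/-- `γ` multiplies the form by `m` -/
theorem Acts.form {γ : MulAut (Qa K)} {M : Matrix (Fin 4) (Fin 4) K} {τ : K ≃+* K} {m : K} (h : Acts γ M τ m) :
    M.transpose * Om * M = m • (Om : Matrix (Fin 4) (Fin 4) K) := by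
  have key : ∀ v w : Fin 4 → K, (M.mulVec v) ⬝ᵥ (Om.mulVec (M.mulVec w)) = m * (v ⬝ᵥ (Om.mulVec w)) := by
    intro v w
    obtain ⟨g, hg⟩ := co_surj (K := K) (fun i => τ.symm (v i))
    obtain ⟨g', hg'⟩ := co_surj (K := K) (fun i => τ.symm (w i))
    have h1 := comm_form g g'
    have h2 := comm_form (γ g) (γ g')
    have h3 := h.Z _ h1.1
    have e1 : γ (g * g' * g⁻¹ * g'⁻¹) = γ g * γ g' * (γ g)⁻¹ * (γ g')⁻¹ := by
      rw [map_mul, map_mul, map_mul, map_inv, map_inv]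
    rw [e1, h2.2, h1.2, h.V, h.V, hg, hg'] at h3
    have e2 : (fun i => τ ((fun i => τ.symm (v i)) i)) = v := by
      ext i
      simp
    have e3 : (fun i => τ ((fun i => τ.symm (w i)) i)) = w := by
      ext i
      simp
    rw [e2, e3] at h3
    have hτ3 : τ 3 = 3 := map_ofNat τ 3
    rw [h3.2]
    congr 1
    simp [dotProduct, Matrix.mulVec, Fin.sum_univ_four, Om, hτ3]
  ext i j
  have h1 := key (Pi.single i 1) (Pi.single j 1)
  rw [← Matrix.vecMul_transpose, ← Matrix.dotProduct_mulVec, Matrix.mulVec_mulVec, Matrix.mulVec_mulVec] at h1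
  simpa using h1

end Cfsg.Agent.H949.GT
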