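import Cfsg.Agent.H949.GT.ParT

/-!
# S5211, the short root parabolic (helper949): the end game

`endgame` : from the rank one property of `Aut_S(Q_a)` in `Γ` (any `p ≠ 3`, `q ≥ 8`) : the standard Weyl element on `Q_a / Z₁`
and the torus `(t², t⁻³)`.
-/

set_option autoImplicit false

namespace Cfsg.Agent.H949.GT

open Cfsg Cfsg.FusionSystem Cfsg.Agent.H756.PU Cfsg.Agent.H779.G2 Cfsg.Agent.H103.GT Cfsg.Agent.H802 Matrix

universe u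

variable {K : Type u} [Field K] {p n : ℕ}

theorem isTor_unique {α β : MulAut (GU K)} {s t : K} {τ : K ≃+* K} (h : IsTor α s t τ) (h' : IsTor β s t τ) : α = β :=
  ext_aut fun g => ⟨by rw [h.a, h'.a], by rw [h.b, h'.b], by rw [h.c, h'.c], by rw [h.d, h'.d], by rw [h.e, h'.e],
    by rw [h.f, h'.f]⟩

theorem exists_isR {α : MulAut (GU K)} {s t : K} {τ : K ≃+* K} (h : IsTor α s t τ) : ∃ γ : MulAut (Qa K), IsR α γ := by
  have h1 : ∀ g : Qa K, α g ∈ Qa K := fun g => by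
    have hg : (g : GU K).a = 0 := g.2
    show (α g).a = 0
    rw [h.a, hg, map_zero, mul_zero]
  have h2 : ∀ g : Qa K, α.symm g ∈ Qa K := fun g => by
    have hg : (g : GU K).a = 0 := g.2
    show (α.symm g).a = 0
    have h3 := h.a (α.symm g)
    rw [MulEquiv.apply_symm_apply, hg] at h3
    have h4 := (mul_eq_zero.1 h3.symm).resolve_left h.ne1
    exact (map_eq_zero_iff τ τ.injective).1 h4
  exact ⟨{ toFun := fun g => ⟨α g, h1 g⟩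
           invFun := fun g => ⟨α.symm g, h2 g⟩
           left_inv := fun g => Subtype.ext (α.symm_apply_apply _)
           right_inv := fun g => Subtype.ext (α.apply_symm_apply _)
           map_mul' := fun g g' => Subtype.ext (map_mul α _ _) }, fun _ => rfl⟩

theorem Acts.uniq_m {γ : MulAut (Qa K)} {M M' : Matrix (Fin 4) (Fin 4) K} {τ τ' : K ≃+* K} {m m' : K}
    (h : Acts γ M τ m) (h' : Acts γ M' τ' m') : m = m' := by
  let g : Qa K := ⟨⟨0, 0, 0, 0, 0, 1⟩, rfl⟩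
  have hg : (g : GU K) ∈ Z1 K := ⟨rfl, rfl, rfl, rfl, rfl⟩
  have h1 := (h.Z g hg).2
  have h2 := (h'.Z g hg).2
  have h3 : (g : GU K).f = 1 := rfl
  rw [h3, map_one, mul_one] at h1 h2
  rw [← h1, h2]

theorem map_refl (M : Matrix (Fin 4) (Fin 4) K) : M.map (RingEquiv.refl K) = M := by
  ext i j
  rfl

/-- conjugates of linear elements -/
theorem conj_lin {γ y : MulAut (Qa K)} {M M' Y : Matrix (Fin 4) (Fin 4) K} {τ τ' : K ≃+* K} {m m' : K}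
    (h : Acts γ M τ m) (h' : Acts γ⁻¹ M' τ' m') (hy : Acts y Y (RingEquiv.refl K) 1) :
    ∃ Y', Acts (γ * y * γ⁻¹) Y' (RingEquiv.refl K) 1 := by
  have h1 := (h.mul hy).mul h'
  have h2 := (h.inv h').2
  have h3 := h.mul h'
  rw [mul_inv_cancel] at h3
  have h4 := h3.uniq_m Acts.one
  have e1 : τ'.trans ((RingEquiv.refl K).trans τ) = RingEquiv.refl K := h2
  have e2 : m * τ 1 * ((RingEquiv.refl K).trans τ) m' = 1 := by
    rw [map_one, mul_one]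
    exact h4
  rw [e1, e2] at h1
  exact ⟨_, h1⟩

/-- `γ` preserves `Z₂` -/
def PZ (γ : MulAut (Qa K)) : Prop := ∀ e : Qa K, (e : GU K) ∈ Z2 K → ((γ e : Qa K) : GU K) ∈ Z2 K

theorem PZ.mul {γ γ' : MulAut (Qa K)} (h : PZ γ) (h' : PZ γ') : PZ (γ * γ') := fun e he => h _ (h' e he)

theorem PZ.of_acts {γ : MulAut (Qa K)} {M : Matrix (Fin 4) (Fin 4) K} {τ : K ≃+* K} {m : K} (h : Acts γ M τ m)
    (hM : ∀ i : Fin 4, i ≠ 3 → M i 3 = 0) : PZ γ := by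
  rintro e ⟨h1, h2, h3, h4⟩
  have hco : ∀ i : Fin 4, i ≠ 3 → co ((γ e : Qa K) : GU K) i = 0 := by
    intro i hi
    rw [h.V, Matrix.mulVec, dotProduct, Fin.sum_univ_four, hM i hi]
    simp [co, h2, h3, h4]
  exact ⟨(γ e).2, hco 0 (by decide), hco 1 (by decide), hco 2 (by decide)⟩

variable {Γ : Subgroup (MulAut (Qa K))} {D : Subgroup (MulAut (GU K))}

theorem acts_TG {c : Γ} (hc : c ∈ TG Γ) : ∃ a, Acts c.1 (Xm a) (RingEquiv.refl K) 1 := by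
  obtain ⟨x, hx⟩ := mem_TG.1 hc
  exact ⟨x.a, acts_conj hx⟩

theorem acts_DG (hK : HypG K p n) (h3 : p ≠ 3) (hP : Par p (Qa K) Γ D) {δ : Γ} (hδ : δ ∈ DG Γ D) :
    ∃ d ∈ D, ∃ s t τ, IsTor d s t τ ∧ IsR d δ.1 ∧
      Acts δ.1 (Matrix.diagonal ![t, s * t, s ^ 2 * t, s ^ 3 * t]) τ (s ^ 3 * t ^ 2) := by
  obtain ⟨d, hd, hr⟩ := hδ
  obtain ⟨s, t, τ, h⟩ := exists_isTor hK h3 hP hd
  exact ⟨d, hd, s, t, τ, h, hr, acts_tor h hr⟩

theorem PZ_norm (hK : HypG K p n) (h3 : p ≠ 3) (hP : Par p (Qa K) Γ D) {γ : Γ}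
    (hγ : γ ∈ Subgroup.normalizer ((TG Γ : Subgroup Γ) : Set Γ)) : PZ γ.1 := by
  obtain ⟨c, hc, δ, hδ, rfl⟩ := norm_dec hP hK hγ
  obtain ⟨a, ha⟩ := acts_TG hc
  obtain ⟨d, -, s, t, τ, -, -, h⟩ := acts_DG hK h3 hP hδ
  refine PZ.mul (γ := c.1) (γ' := δ.1) (PZ.of_acts ha ?_) (PZ.of_acts h ?_)
  · intro i hi
    fin_cases i
    · rfl
    · rfl
    · rfl
    · exact absurd rfl hi
  · intro i hi
    exact Matrix.diagonal_apply_ne _ hi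

/-- the torus element `diag(t², t, 1, t⁻¹)` -/
theorem exists_delta (hP : Par p (Qa K) Γ D) (hTor : HasTor D (fun t => t⁻¹) (fun t => t ^ 2)) {t : K} (ht : t ≠ 0) :
    ∃ d ∈ D, ∃ δ : Γ, IsTor d t⁻¹ (t ^ 2) (RingEquiv.refl K) ∧ IsR d δ.1 ∧ δ ∈ DG Γ D ∧
      Acts δ.1 (dl t) (RingEquiv.refl K) t := by
  obtain ⟨α, hα⟩ := exists_tor (RingEquiv.refl K) (inv_ne_zero ht) (pow_ne_zero 2 ht)
  have hαD := hTor t ht α hα
  obtain ⟨γ, hγ⟩ := exists_isR hα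
  refine ⟨α, hαD, ⟨γ, hP.D_res α hαD γ hγ⟩, hα, hγ, ⟨α, hαD, hγ⟩, ?_⟩
  have h1 := acts_tor hα hγ
  have e1 : (Matrix.diagonal ![t ^ 2, t⁻¹ * t ^ 2, t⁻¹ ^ 2 * t ^ 2, t⁻¹ ^ 3 * t ^ 2] : Matrix (Fin 4) (Fin 4) K) = dl t := by
    rw [dl]
    congr 1
    ext i
    fin_cases i
    · rfl
    · simp
      field_simp
    · simp
      field_simp
    · simp
      field_simp
  have e2 : t⁻¹ ^ 3 * (t ^ 2) ^ 2 = t := by field_simp
  rw [e1, e2] at h1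
  exact h1

/-- elements normalizing `T` and another conjugate `T^γ₀` normalized by `D` are diagonal -/
theorem acts_both (hK : HypG K p n) (h3 : p ≠ 3) (hP : Par p (Qa K) Γ D) (hTI : TIAut (⊤ : Subgroup (GU K)) Γ) {γ₀ : Γ}
    (hγ₀ : γ₀ ∉ Subgroup.normalizer ((TG Γ : Subgroup Γ) : Set Γ))
    (hγD : ∀ δ ∈ DG Γ D, γ₀⁻¹ * δ * γ₀ ∈ Subgroup.normalizer ((TG Γ : Subgroup Γ) : Set Γ)) {β : Γ}
    (h1 : β ∈ Subgroup.normalizer ((TG Γ : Subgroup Γ) : Set Γ))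
    (h2 : γ₀⁻¹ * β * γ₀ ∈ Subgroup.normalizer ((TG Γ : Subgroup Γ) : Set Γ)) :
    ∃ s t τ m, s ≠ 0 ∧ t ≠ 0 ∧ Acts β.1 (Matrix.diagonal ![t, s * t, s ^ 2 * t, s ^ 3 * t]) τ m := by
  have hfin := hK.fin
  have hfp : Fact p.Prime := ⟨hK.pp⟩
  obtain ⟨c, hc, δ, hδ, rfl⟩ := norm_dec hP hK h1
  obtain ⟨T, hT⟩ := exists_sylowP hK hP
  have hT' : (T : Subgroup Γ) = TG Γ := hT
  have h4 : γ₀⁻¹ * c * γ₀ ∈ Subgroup.normalizer ((TG Γ : Subgroup Γ) : Set Γ) := by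
    have := Subgroup.mul_mem _ h2 (Subgroup.inv_mem _ (hγD δ hδ))
    have e : γ₀⁻¹ * (c * δ) * γ₀ * (γ₀⁻¹ * δ * γ₀)⁻¹ = γ₀⁻¹ * c * γ₀ := by group
    rwa [e] at this
  have h5 : γ₀⁻¹ * c * γ₀ ∈ TG Γ := by
    have h6 : IsPGroup p ((T : Subgroup Γ).map (MulAut.conj γ₀⁻¹).toMonoidHom) := T.isPGroup'.map _
    have h7 := h6.inf_normalizer_sylow T
    have h8 : γ₀⁻¹ * c * γ₀ ∈ (T : Subgroup Γ).map (MulAut.conj γ₀⁻¹).toMonoidHom ⊓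
        Subgroup.normalizer ((T : Subgroup Γ) : Set Γ) := by
      refine ⟨⟨c, by rw [hT']; exact hc, ?_⟩, by rw [hT']; exact h4⟩
      show γ₀⁻¹ * c * γ₀⁻¹⁻¹ = _
      rw [inv_inv]
    have h9 : γ₀⁻¹ * c * γ₀ ∈ (T : Subgroup Γ).map (MulAut.conj γ₀⁻¹).toMonoidHom ⊓ (T : Subgroup Γ) := by
      rw [← h7]
      exact h8
    rw [hT'] at h9
    exact h9.2
  have h6 : c.1 ∈ Inn (Qa K) := by
    by_contra hcon
    have h7 := hTI γ₀⁻¹.1 γ₀⁻¹.2 c.1 hc hcon (by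
      have : γ₀⁻¹.1 * c.1 * (γ₀⁻¹.1)⁻¹ = (γ₀⁻¹ * c * γ₀).1 := by simp
      rw [this]
      exact h5)
    have h8 := (normAut_iff hK hP γ₀⁻¹).1 h7
    exact hγ₀ (by simpa using Subgroup.inv_mem _ h8)
  obtain ⟨d, -, s, t, τ, ht, -, h⟩ := acts_DG hK h3 hP hδ
  have h7 := (inn_acts h6).mul h
  rw [one_mul, map_refl] at h7
  exact ⟨s, t, _, _, ht.ne1, ht.ne2, h7⟩

theorem endgame (hAlg : StWAlg.{u}) (hK : HypG K p n) (h3 : p ≠ 3) (hq : 8 ≤ p ^ n) (hP : Par p (Qa K) Γ D)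
    (hTI : TIAut (⊤ : Subgroup (GU K)) Γ) (hact : ∀ γ ∈ Γ, ∃ M τ m, m ≠ 0 ∧ Acts γ M τ m) (hR : R1 (TG Γ))
    (hTor : HasTor D (fun t => t⁻¹) (fun t => t ^ 2)) (hZ2 : ¬ Inv Γ (Z2 K)) :
    (∃ w ∈ Γ, Acts w Wm (RingEquiv.refl K) 1) ∧ HasTor D (fun t => t ^ 2) (fun t => (t ^ 3)⁻¹) := by
  have hfin := hK.fin
  have hfp : Fact p.Prime := ⟨hK.pp⟩
  have h30 := three_ne hK h3
  obtain ⟨T, hT⟩ := exists_sylowP hK hP
  have hT' : (T : Subgroup Γ) = TG Γ := hT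
  set N : Subgroup Γ := Subgroup.normalizer ((TG Γ : Subgroup Γ) : Set Γ) with hN
  have hsm : ∀ a : Γ, ((a • T : Sylow p Γ) : Subgroup Γ) = (TG Γ).map (MulAut.conj a).toMonoidHom := by
    intro a
    rw [Sylow.coe_subgroup_smul, ← hT']
    rfl
  have hsmN : ∀ a : Γ, a • T = T ↔ a ∈ N := by
    intro a
    rw [hN, EvenType.StrongP.mem_norm, ← hsm, ← hT']
    exact ⟨fun h => by rw [h], fun h => Sylow.ext h⟩
  -- a second Sylow subgroup, normalized by `D`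
  obtain ⟨P', hP', hDP'⟩ := H302.PU.exists_inv_sylow T (DG Γ D) (by rw [hT']; exact DG_le hK hP) (DG_coprime hK hP)
    (by
      intro P' P'' h1 h2
      obtain ⟨a, rfl⟩ := MulAction.exists_smul_eq Γ T P'
      obtain ⟨b, rfl⟩ := MulAction.exists_smul_eq Γ T P''
      obtain ⟨x, hx, h⟩ := hR.trans a b (fun h => h1 ((hsmN a).2 h)) (fun h => h2 ((hsmN b).2 h))
      refine ⟨x, by rw [hT']; exact hx, ?_⟩
      rw [hsm, hsm, ← EvenType.StrongP.map_conj_mul]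
      rw [EvenType.StrongP.mem_norm] at h
      conv_rhs => rw [← h]
      rw [← EvenType.StrongP.map_conj_mul]
      congr 3
      group)
    (by
      intro hnor
      apply hP.nn
      intro γ hγ
      have h1 := (normAut_iff hK hP ⟨γ, hγ⟩).2 (by
        have h2 : ((TG Γ : Subgroup Γ)).Normal := by rw [← hT']; exact hnor
        rw [Subgroup.normalizer_eq_top]
        trivial)
      exact h1)
  obtain ⟨γ₀, rfl⟩ := MulAction.exists_smul_eq Γ T P'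
  have hγ₀ : γ₀ ∉ N := fun h => hP' ((hsmN γ₀).2 h)
  have hγD : ∀ δ ∈ DG Γ D, γ₀⁻¹ * δ * γ₀ ∈ N := by
    intro δ hδ
    have h1 := hDP' hδ
    rw [hsm, EvenType.StrongP.mem_norm, ← EvenType.StrongP.map_conj_mul] at h1
    rw [hN, EvenType.StrongP.mem_norm, mul_assoc, EvenType.StrongP.map_conj_mul, h1, ← EvenType.StrongP.map_conj_mul,
      inv_mul_cancel, EvenType.StrongP.map_conj_one]
  -- the Weyl element
  obtain ⟨x₁, hx₁, y₁, hy₁, hw1, hw2⟩ := hR.weyl γ₀ hγ₀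
  obtain ⟨w, hw⟩ : ∃ w, w = x₁ * (γ₀ * y₁ * γ₀⁻¹) * x₁ := ⟨_, rfl⟩
  rw [← hw] at hw1 hw2
  obtain ⟨a₁, ha₁⟩ := acts_TG hx₁
  obtain ⟨b₁, hb₁⟩ := acts_TG hy₁
  obtain ⟨W, hW⟩ : ∃ W, Acts w.1 W (RingEquiv.refl K) 1 := by
    obtain ⟨M₀, τ₀, m₀, -, h0⟩ := hact γ₀.1 γ₀.2
    obtain ⟨M₁, τ₁, m₁, -, h1⟩ := hact γ₀.1⁻¹ (Γ.inv_mem γ₀.2)
    obtain ⟨Y, hY⟩ := conj_lin h0 h1 hb₁
    have h2 := (ha₁.mul' hY).mul' ha₁
    rw [one_mul, one_mul] at h2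
    rw [hw]
    exact ⟨_, h2⟩
  have hWu := hW.isUnit
  have hWd : IsUnit W.det := (Matrix.isUnit_iff_isUnit_det W).1 hWu
  have hconj : ∀ δ ∈ DG Γ D, w * δ * w⁻¹ ∈ N ∧ γ₀⁻¹ * (w * δ * w⁻¹) * γ₀ ∈ N := by
    intro δ hδ
    constructor
    · have e : w * δ * w⁻¹ = (w * γ₀) * (γ₀⁻¹ * δ * γ₀) * (w * γ₀)⁻¹ := by group
      rw [e]
      exact N.mul_mem (N.mul_mem hw2 (hγD δ hδ)) (N.inv_mem hw2)
    · have e : γ₀⁻¹ * (w * δ * w⁻¹) * γ₀ = (γ₀⁻¹ * w) * δ * (γ₀⁻¹ * w)⁻¹ := by group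
      rw [e]
      exact N.mul_mem (N.mul_mem hw1 (DG_le hK hP hδ)) (N.inv_mem hw1)
  -- `w` is diagonal or antidiagonal
  have hmono : (∀ i j, i ≠ j → W i j = 0) ∨ (∀ i j : Fin 4, (i : ℕ) + (j : ℕ) ≠ 3 → W i j = 0) := by
    obtain ⟨g, hg⟩ := IsCyclic.exists_generator (α := Kˣ)
    have hord : 7 ≤ orderOf g := by
      rw [orderOf_eq_card_of_forall_mem_zpowers hg, Nat.card_units, hK.card]
      omega
    obtain ⟨d, hd, δ, -, -, hδD, hδ⟩ := exists_delta hP hTor (Units.ne_zero g)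
    obtain ⟨h1, h2⟩ := hconj δ hδD
    obtain ⟨s, t, τ, m, hs, ht, h4⟩ := acts_both hK h3 hP hTI hγ₀ hγD h1 h2
    have h5 := (hW.mul' hδ).mul' (hW.lin_inv one_ne_zero)
    obtain ⟨h6, -⟩ := h4.uniq h5 0 0 (by simpa using ht)
    refine mono hord hWu (a := t) (s := s) ?_
    rw [h6, Matrix.mul_assoc, Matrix.nonsing_inv_mul _ hWd, Matrix.mul_one]
    rfl
  have hwN : w ∉ N := by
    intro h
    apply hγ₀
    have := N.mul_mem h (N.inv_mem hw1)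
    have e : w * (γ₀⁻¹ * w)⁻¹ = γ₀ := by group
    rwa [e] at this
  rcases hmono with hdiag | hanti
  · exfalso
    apply hZ2
    have hPw : PZ w.1 := PZ.of_acts hW fun i hi => hdiag i 3 hi
    refine ⟨Z2_le_Qa, fun γ hγ e he => ?_⟩
    suffices h : PZ γ from h e he
    by_cases hγN : (⟨γ, hγ⟩ : Γ) ∈ N
    · exact PZ_norm hK h3 hP hγN
    · obtain ⟨x, hx, h1⟩ := hR.trans ⟨γ, hγ⟩ w hγN hwN
      have h2 := PZ_norm hK h3 hP h1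
      obtain ⟨a, ha⟩ := acts_TG ((TG Γ).inv_mem hx)
      have h4 : PZ (x⁻¹ : Γ).1 := PZ.of_acts ha fun i hi => by
        fin_cases i
        · rfl
        · rfl
        · rfl
        · exact absurd rfl hi
      have h5 := (PZ.mul h4 hPw).mul h2
      have e1 : (x⁻¹ : Γ).1 * w.1 * (w⁻¹ * x * ⟨γ, hγ⟩ : Γ).1 = γ := by
        have : x⁻¹ * w * (w⁻¹ * x * ⟨γ, hγ⟩) = (⟨γ, hγ⟩ : Γ) := by group
        exact congrArg Subtype.val this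
      rwa [e1] at h5
  · obtain ⟨x, y, z, t, hWeq⟩ : ∃ x y z t, W = ad x y z t := ⟨_, _, _, _, eq_ad hanti⟩
    have hform := hW.form
    rw [one_smul, hWeq] at hform
    obtain ⟨htx, hzy⟩ := ad_form h30 hform
    have hx : x ≠ 0 := fun h => by rw [h, mul_zero] at htx; exact one_ne_zero (by linear_combination htx)
    have ht : t ≠ 0 := fun h => by rw [h, zero_mul] at htx; exact one_ne_zero (by linear_combination htx)
    have hy : y ≠ 0 := fun h => by rw [h, mul_zero] at hzy; exact one_ne_zero (by linear_combination hzy)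
    have hz : z ≠ 0 := fun h => by rw [h, zero_mul] at hzy; exact one_ne_zero (by linear_combination hzy)
    -- `w = x₁ (w y₂ w⁻¹) x₁`
    obtain ⟨y₂, hy₂, hwy⟩ : ∃ y₂ ∈ TG Γ, w = x₁ * (w * y₂ * w⁻¹) * x₁ := by
      refine ⟨(γ₀⁻¹ * w)⁻¹ * y₁ * (γ₀⁻¹ * w), ?_, ?_⟩
      · have h1 := N.inv_mem hw1
        have h2 := (Subgroup.mem_normalizer_iff.1 h1 y₁).1 hy₁
        rwa [inv_inv] at h2
      · have e : w * ((γ₀⁻¹ * w)⁻¹ * y₁ * (γ₀⁻¹ * w)) * w⁻¹ = γ₀ * y₁ * γ₀⁻¹ := by group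
        rw [e]
        exact hw
    obtain ⟨c₁, hc₁⟩ := mem_TG.1 hx₁
    obtain ⟨c₂, hc₂⟩ := mem_TG.1 hy₂
    have hc₁a := acts_conj hc₁
    have hc₂a := acts_conj hc₂
    have ha₁0 : c₁.a ≠ 0 := by
      intro h0
      rw [h0, Xm_zero] at hc₁a
      have h1 := (hc₁a.mul' ((hW.mul' hc₂a).mul' (hW.lin_inv one_ne_zero))).mul' hc₁a
      have h2 : x₁.1 * (w.1 * y₂.1 * w.1⁻¹) * x₁.1 = w.1 := congrArg Subtype.val hwy.symm
      rw [h2, Matrix.one_mul, Matrix.mul_one] at h1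
      have h4 := hW.uniq_lin h1
      have h5 : W * W = W * Xm c₂.a := by
        calc W * W = W * Xm c₂.a * W⁻¹ * W := by rw [← h4]
          _ = W * Xm c₂.a := by rw [Matrix.mul_assoc, Matrix.nonsing_inv_mul _ hWd, Matrix.mul_one]
      have h6 : W = Xm c₂.a := by
        have h7 := congrArg (fun M => W⁻¹ * M) h5
        simp only [← Matrix.mul_assoc, Matrix.nonsing_inv_mul _ hWd, Matrix.one_mul] at h7
        exact h7
      have h8 := congrFun (congrFun h6 0) 0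
      rw [hanti 0 0 (by decide)] at h8
      simp [Xm] at h8
    -- scaling
    obtain ⟨d, hd, δ, hdT, hdR, hδD, hδ⟩ := exists_delta hP hTor ha₁0
    have hX := acts_conj (conj_isR hdR hc₁)
    have hY := acts_conj (conj_isR hdR hc₂)
    have e1 : (d c₁).a = 1 := by
      rw [hdT.a]
      exact inv_mul_cancel₀ ha₁0
    rw [e1] at hX
    set w₁ : Γ := δ * w * δ⁻¹ with hw₁
    have hW₁ := (hδ.mul' hW).mul' (hδ.lin_inv ha₁0)
    have e2 : (dl c₁.a)⁻¹ = (dl c₁.a⁻¹ : Matrix (Fin 4) (Fin 4) K) := Matrix.inv_eq_right_inv (dl_mul_inv ha₁0)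
    rw [e2, hWeq, dl_ad ha₁0, mul_one, mul_inv_cancel₀ ha₁0] at hW₁
    have hi := inv_ne_zero ha₁0
    have hx' : c₁.a ^ 3 * x ≠ 0 := mul_ne_zero (pow_ne_zero _ ha₁0) hx
    have hy' : c₁.a * y ≠ 0 := mul_ne_zero ha₁0 hy
    have hz' : c₁.a⁻¹ * z ≠ 0 := mul_ne_zero hi hz
    have ht' : c₁.a⁻¹ ^ 3 * t ≠ 0 := mul_ne_zero (pow_ne_zero _ hi) ht
    obtain ⟨W₁, hW₁e⟩ : ∃ W₁, W₁ = ad (c₁.a ^ 3 * x) (c₁.a * y) (c₁.a⁻¹ * z) (c₁.a⁻¹ ^ 3 * t) := ⟨_, rfl⟩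
    rw [← hW₁e] at hW₁
    have hw₁v : w₁.1 = δ.1 * w.1 * δ.1⁻¹ := rfl
    rw [← hw₁v] at hW₁
    have hinv : W₁⁻¹ = ad (c₁.a⁻¹ ^ 3 * t)⁻¹ (c₁.a⁻¹ * z)⁻¹ (c₁.a * y)⁻¹ (c₁.a ^ 3 * x)⁻¹ := by
      rw [hW₁e]
      exact Matrix.inv_eq_right_inv (ad_mul_inv hx' hy' hz' ht')
    have hrel : W₁ = Xm 1 * (W₁ * Xm (d c₂).a * W₁⁻¹) * Xm 1 := by
      have h1 := (hX.mul' ((hW₁.mul' hY).mul' (hW₁.lin_inv one_ne_zero))).mul' hX
      have h2 : δ.1 * x₁.1 * δ.1⁻¹ * (w₁.1 * (δ.1 * y₂.1 * δ.1⁻¹) * w₁.1⁻¹) * (δ.1 * x₁.1 * δ.1⁻¹) = w₁.1 := by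
        have h4 : δ * x₁ * δ⁻¹ * (w₁ * (δ * y₂ * δ⁻¹) * w₁⁻¹) * (δ * x₁ * δ⁻¹) = w₁ := by
          rw [hw₁]
          conv_rhs => rw [hwy]
          group
        exact congrArg Subtype.val h4
      rw [h2] at h1
      exact hW₁.uniq_lin h1
    have hform1 : (ad (c₁.a ^ 3 * x) (c₁.a * y) (c₁.a⁻¹ * z) (c₁.a⁻¹ ^ 3 * t)).transpose * Om *
        ad (c₁.a ^ 3 * x) (c₁.a * y) (c₁.a⁻¹ * z) (c₁.a⁻¹ ^ 3 * t) = Om := by
      refine form_ad ?_ ?_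
      · rw [show c₁.a⁻¹ ^ 3 * t * (c₁.a ^ 3 * x) = (c₁.a⁻¹ * c₁.a) ^ 3 * (t * x) by ring, inv_mul_cancel₀ ha₁0, htx]
        ring
      · rw [show c₁.a⁻¹ * z * (c₁.a * y) = (c₁.a⁻¹ * c₁.a) * (z * y) by ring, inv_mul_cancel₀ ha₁0, hzy]
        ring
    have hstd : W₁ = Wm := by
      have h1 := hAlg h30 _ _ _ _ (d c₂).a hx' hy' hz' ht' hform1 (by
        intro i j hij
        show (Xm 1 * (ad (c₁.a ^ 3 * x) (c₁.a * y) (c₁.a⁻¹ * z) (c₁.a⁻¹ ^ 3 * t) * Xm (d c₂).a *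
          ad (c₁.a⁻¹ ^ 3 * t)⁻¹ (c₁.a⁻¹ * z)⁻¹ (c₁.a * y)⁻¹ (c₁.a ^ 3 * x)⁻¹) * Xm 1 : Matrix (Fin 4) (Fin 4) K) i j = 0
        rw [← hinv, ← hW₁e, ← hrel, hW₁e]
        fin_cases i <;> fin_cases j
        all_goals first
          | rfl
          | exact absurd rfl hij)
      have h2 : Xm 1 * (ad (c₁.a ^ 3 * x) (c₁.a * y) (c₁.a⁻¹ * z) (c₁.a⁻¹ ^ 3 * t) * Xm (d c₂).a *
          ad (c₁.a⁻¹ ^ 3 * t)⁻¹ (c₁.a⁻¹ * z)⁻¹ (c₁.a * y)⁻¹ (c₁.a ^ 3 * x)⁻¹) * Xm 1 = (Wm : Matrix (Fin 4) (Fin 4) K) := h1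
      rw [← hinv, ← hW₁e, ← hrel] at h2
      exact h2
    rw [hstd] at hW₁
    refine ⟨⟨w₁.1, w₁.2, hW₁⟩, ?_⟩
    -- the torus
    intro t₀ ht₀ α hα
    have hu : t₀⁻¹ ≠ 0 := inv_ne_zero ht₀
    obtain ⟨du, hdu, δu, -, -, hδuD, hδu⟩ := exists_delta hP hTor hu
    have hγN : δu * (w₁ * δu⁻¹ * w₁⁻¹) ∈ N := by
      refine N.mul_mem (DG_le hK hP hδuD) ?_
      have h1 := (hconj (δ⁻¹ * δu⁻¹ * δ) ((DG Γ D).mul_mem ((DG Γ D).mul_mem ((DG Γ D).inv_mem hδD)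
        ((DG Γ D).inv_mem hδuD)) hδD)).1
      have h2 := DG_le hK hP hδD
      have h4 := N.mul_mem (N.mul_mem h2 h1) (N.inv_mem h2)
      have e : δ * (w * (δ⁻¹ * δu⁻¹ * δ) * w⁻¹) * δ⁻¹ = w₁ * δu⁻¹ * w₁⁻¹ := by
        rw [hw₁]
        group
      rwa [e] at h4
    obtain ⟨c, hc, δ', hδ', hdec⟩ := norm_dec hP hK hγN
    obtain ⟨b, hb⟩ := acts_TG hc
    obtain ⟨d', hd', s', t', τ', hd'T, -, hδ'a⟩ := acts_DG hK h3 hP hδ'
    have h1 := hb.mul hδ'a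
    rw [map_refl] at h1
    have h2 := hδu.mul' ((hW₁.mul' (hδu.lin_inv hu)).mul' (hW₁.lin_inv one_ne_zero))
    have h4 : c.1 * δ'.1 = δu.1 * (w₁.1 * δu.1⁻¹ * w₁.1⁻¹) := congrArg Subtype.val hdec.symm
    rw [h4] at h1
    obtain ⟨h5, h6⟩ := h1.uniq h2 0 0 (by
      rw [Matrix.mul_diagonal]
      simpa [Xm] using hd'T.ne2)
    have e3 : (dl t₀⁻¹)⁻¹ = (dl t₀⁻¹⁻¹ : Matrix (Fin 4) (Fin 4) K) := Matrix.inv_eq_right_inv (dl_mul_inv hu)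
    have e4 : (Wm : Matrix (Fin 4) (Fin 4) K)⁻¹ = ad (-1) 1 (-1) 1 := by
      refine Matrix.inv_eq_right_inv ?_
      rw [Wm_eq]
      have := ad_mul_inv (K := K) (x := 1) (y := -1) (z := 1) (t := -1) one_ne_zero (neg_ne_zero.2 one_ne_zero)
        one_ne_zero (neg_ne_zero.2 one_ne_zero)
      simpa [inv_neg] using this
    rw [e3, e4, Wm_eq, dl_Wm hu] at h5
    have h7 := congrFun (congrFun h5 0) 0
    have h8 := congrFun (congrFun h5 1) 1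
    rw [Matrix.mul_diagonal] at h7 h8
    simp [Xm] at h7 h8
    have hσ : τ' = RingEquiv.refl K := h6
    have h9 : s' = t₀ ^ 2 := by
      rw [h7] at h8
      have h10 : s' * (t₀ ^ 3)⁻¹ * t₀ ^ 3 = t₀⁻¹ * t₀ ^ 3 := by rw [h8]
      rw [inv_mul_cancel_right₀ (pow_ne_zero _ ht₀)] at h10
      rw [h10]
      field_simp
    rw [h9, h7, hσ] at hd'T
    rw [isTor_unique hα hd'T]
    exact hd'

end Cfsg.Agent.H949.GT
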