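import Cfsg.Agent.H949.GT.End

/-!
# S5211, the short root parabolic (helper949): `Γ = Gen`
-/

set_option autoImplicit false

namespace Cfsg.Agent.H949.GT

open Cfsg Cfsg.FusionSystem Cfsg.Agent.H756.PU Cfsg.Agent.H779.G2 Cfsg.Agent.H103.GT Cfsg.Agent.H802 Matrix

universe u

variable {K : Type u} [Field K] {p n : ℕ} {Γ : Subgroup (MulAut (Qa K))} {D : Subgroup (MulAut (GU K))}

theorem isWa_unique {γ γ' : MulAut (Qa K)} (h : IsWa γ) (h' : IsWa γ') : γ = γ' := by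
  apply MulEquiv.ext
  intro g
  apply Subtype.ext
  have h1 : ((γ g : Qa K) : GU K).a = 0 := (γ g).2
  have h2 : ((γ' g : Qa K) : GU K).a = 0 := (γ' g).2
  exact GU.ext (h1.trans h2.symm) (by rw [h.b, h'.b]) (by rw [h.c, h'.c]) (by rw [h.d, h'.d]) (by rw [h.e, h'.e])
    (by rw [h.f, h'.f])

/-- the Weyl automorphism generates, together with the standard Borel subgroup -/
theorem gen_of_wa (hK : HypG K p n) (h3 : p ≠ 3) (hP : Par p (Qa K) Γ D) (hR : R1 (TG Γ)) (hω : ∃ γ ∈ Γ, IsWa γ) :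
    Γ = Gen IsWa D := by
  obtain ⟨ω, hωΓ, hω⟩ := hω
  set N : Subgroup Γ := Subgroup.normalizer ((TG Γ : Subgroup Γ) : Set Γ) with hN
  have hTG : ∀ c ∈ TG Γ, c.1 ∈ Gen IsWa D := fun c hc => Subgroup.subset_closure (Or.inl (Or.inl hc))
  have hNG : ∀ γ ∈ N, γ.1 ∈ Gen IsWa D := by
    intro γ hγ
    obtain ⟨c, hc, δ, ⟨d, hd, hr⟩, rfl⟩ := norm_dec hP hK hγ
    exact Subgroup.mul_mem _ (hTG c hc) (Subgroup.subset_closure (Or.inr ⟨d, hd, hr⟩))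
  have hωN : (⟨ω, hωΓ⟩ : Γ) ∉ N := by
    intro h
    have h1 := PZ_norm hK h3 hP h ⟨⟨0, 0, 0, 0, 1, 0⟩, rfl⟩ ⟨rfl, rfl, rfl, rfl⟩
    have h2 := h1.2.1
    have h3 := hω.b ⟨⟨0, 0, 0, 0, 1, 0⟩, rfl⟩
    rw [h3] at h2
    exact one_ne_zero h2
  apply le_antisymm
  · intro γ hγ
    by_cases hγN : (⟨γ, hγ⟩ : Γ) ∈ N
    · exact hNG _ hγN
    · obtain ⟨x, hx, h1⟩ := hR.trans ⟨γ, hγ⟩ ⟨ω, hωΓ⟩ hγN hωN
      have h2 := hNG _ h1
      have h4 : γ = (x⁻¹ : Γ).1 * ω * ((⟨ω, hωΓ⟩ : Γ)⁻¹ * x * ⟨γ, hγ⟩ : Γ).1 := by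
        have h5 : (⟨γ, hγ⟩ : Γ) = x⁻¹ * ⟨ω, hωΓ⟩ * ((⟨ω, hωΓ⟩ : Γ)⁻¹ * x * ⟨γ, hγ⟩) := by group
        exact congrArg Subtype.val h5
      rw [h4]
      exact Subgroup.mul_mem _ (Subgroup.mul_mem _ (hTG _ ((TG Γ).inv_mem hx))
        (Subgroup.subset_closure (Or.inl (Or.inr hω)))) h2
  · refine (Subgroup.closure_le _).2 ?_
    rintro γ ((h | h) | ⟨d, hd, hr⟩)
    · exact hP.indu h
    · rw [isWa_unique h hω]
      exact hωΓ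
    · exact hP.D_res d hd γ hr

theorem weyl_of_acts {γ : MulAut (Qa K)} {m : K} (h : Acts γ Wm (RingEquiv.refl K) m) (g : Qa K) :
    ((γ g : Qa K) : GU K).b = (g : GU K).e ∧ ((γ g : Qa K) : GU K).c = - (g : GU K).d ∧
      ((γ g : Qa K) : GU K).d = (g : GU K).c ∧ ((γ g : Qa K) : GU K).e = - (g : GU K).b := by
  have h1 := h.V g
  refine ⟨(congrFun h1 0).trans ?_, (congrFun h1 1).trans ?_, (congrFun h1 2).trans ?_, (congrFun h1 3).trans ?_⟩ <;>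
    simp [Wm, co, Matrix.mulVec, dotProduct, Fin.sum_univ_four]

/-- asked from helper403: the Weyl automorphism itself lies in `Γ` -/
def StWFin1 : Prop :=
  ∀ {K : Type u} [Field K] {p n : ℕ}, HypG K p n → p ≠ 3 → 5 ≤ p ^ n →
    ∀ (Γ : Subgroup (MulAut (Qa K))) (D : Subgroup (MulAut (GU K))), Par p (Qa K) Γ D → Full D →
    (∃ γ ∈ Γ, ∀ g : Qa K, ((γ g : Qa K) : GU K).b = (g : GU K).e ∧ ((γ g : Qa K) : GU K).c = - (g : GU K).d ∧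
      ((γ g : Qa K) : GU K).d = (g : GU K).c ∧ ((γ g : Qa K) : GU K).e = - (g : GU K).b) →
    ∃ γ ∈ Γ, IsWa γ

/-- **the conclusion of `StLaP` from the rank one property** (`p ≠ 3`, `q ≥ 8`) -/
theorem la_of_R1 (hAlg : StWAlg.{u}) (hWF : StWFin1.{u}) (hSem : StSem.{u}) (hTI : StTI.{u}) (hK : HypG K p n)
    (h3 : p ≠ 3) (hq : 8 ≤ p ^ n) (hP : Par p (Qa K) Γ D) (hR : R1 (TG Γ))
    (hTor : HasTor D (fun t => t⁻¹) (fun t => t ^ 2)) (hZ2 : ¬ Inv Γ (Z2 K)) :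
    HasTor D (fun t => t ^ 2) (fun t => (t ^ 3)⁻¹) ∧ (Full D → Γ = Gen IsWa D) := by
  have hTIΓ := (hTI hK (by omega) (Qa K) (Or.inl rfl)).1 Γ hP.indu hP.syl
  obtain ⟨⟨w, hw, hwa⟩, hT⟩ := endgame hAlg hK h3 hq hP hTIΓ (fun γ _ => exists_acts hSem hK h3 γ) hR hTor hZ2
  refine ⟨hT, fun hD => gen_of_wa hK h3 hP hR ?_⟩
  exact hWF hK h3 (by omega) Γ D hP hD ⟨w, hw, weyl_of_acts hwa⟩

end Cfsg.Agent.H949.GT
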