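import Cfsg.Agent.H949.GT.Gen

/-!
# S5211, the short root parabolic (helper949): the kernel `K0`, the linear part `G0`, the linear representation
-/

set_option autoImplicit false

namespace Cfsg.Agent.H949.GT

open Cfsg Cfsg.FusionSystem Cfsg.Agent.H756.PU Cfsg.Agent.H779.G2 Cfsg.Agent.H103.GT Cfsg.Agent.H802 Matrix

universe u

variable {K : Type u} [Field K] {p n : ℕ} {Γ : Subgroup (MulAut (Qa K))} {D : Subgroup (MulAut (GU K))}

/-- uniqueness of the action on `Q_a / Z₁` -/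
theorem uniqV {γ : MulAut (Qa K)} {M M' : Matrix (Fin 4) (Fin 4) K} {τ τ' : K ≃+* K}
    (h : ∀ g : Qa K, co ((γ g : Qa K) : GU K) = M.mulVec (fun i => τ (co (g : GU K) i)))
    (h' : ∀ g : Qa K, co ((γ g : Qa K) : GU K) = M'.mulVec (fun i => τ' (co (g : GU K) i)))
    (i₀ j₀ : Fin 4) (h0 : M i₀ j₀ ≠ 0) : M = M' ∧ τ = τ' := by
  have key : ∀ (c : K) (i j : Fin 4), M i j * τ c = M' i j * τ' c := by
    intro c i j
    obtain ⟨g, hg⟩ := co_surj (K := K) (Pi.single j c)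
    have h1 := (h g).symm.trans (h' g)
    have h2 := congrFun h1 i
    rw [hg] at h2
    have h3 : ∀ (σ : K ≃+* K) (N : Matrix (Fin 4) (Fin 4) K),
        N.mulVec (fun k => σ ((Pi.single j c : Fin 4 → K) k)) i = N i j * σ c := by
      intro σ N
      have : (fun k => σ ((Pi.single j c : Fin 4 → K) k)) = Pi.single j (σ c) := by
        ext k
        by_cases hk : k = j
        · subst hk
          simp
        · simp [Pi.single_eq_of_ne hk]
      rw [this]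
      simp
    rw [h3, h3] at h2
    exact h2
  have hM : M = M' := by
    ext i j
    have := key 1 i j
    simpa using this
  refine ⟨hM, ?_⟩
  ext c
  have := key c i₀ j₀
  rw [← hM] at this
  exact mul_left_cancel₀ h0 this

/-- the elements trivial on `Q_a / Z₁` -/
def K0 (Γ : Subgroup (MulAut (Qa K))) : Subgroup Γ where
  carrier := {γ | ∀ g : Qa K, co ((γ.1 g : Qa K) : GU K) = co (g : GU K)}
  one_mem' := fun _ => rfl
  mul_mem' := fun {γ γ'} h h' g => (h (γ'.1 g)).trans (h' g)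
  inv_mem' := fun {γ} h g => by
    have h1 := h (γ.1⁻¹ g)
    rw [MulAut.apply_inv_self] at h1
    exact h1.symm

theorem K0_acts (hact : ∀ γ ∈ Γ, ∃ M τ m, m ≠ 0 ∧ Acts γ M τ m) {κ : Γ} (hκ : κ ∈ K0 Γ) :
    Acts κ.1 1 (RingEquiv.refl K) 1 := by
  obtain ⟨M, τ, m, -, h⟩ := hact κ.1 κ.2
  obtain ⟨h1, h2⟩ := uniqV (γ := κ.1) (M := 1) (τ := RingEquiv.refl K) (fun g => by
    rw [Matrix.one_mulVec]
    exact hκ g) h.V 0 0 (by simp)
  rw [← h1, ← h2] at h
  have h3 := h.form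
  rw [Matrix.transpose_one, Matrix.one_mul, Matrix.mul_one] at h3
  have h4 := congrFun (congrFun h3 0) 3
  have h5 : m = 1 := by
    simp [Om] at h4
    exact h4.symm
  rwa [h5] at h

theorem K0_pow (hK : HypG K p n) (hact : ∀ γ ∈ Γ, ∃ M τ m, m ≠ 0 ∧ Acts γ M τ m) {κ : Γ} (hκ : κ ∈ K0 Γ) :
    κ ^ p = 1 := by
  have h := K0_acts hact hκ
  have hchar := hK.char
  have hz1 : ∀ g : Qa K, (g : GU K) ∈ Z1 K → κ.1 g = g := by
    rintro g hg
    obtain ⟨h1, h2⟩ := h.Z g hg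
    obtain ⟨a1, a2, a3, a4, a5⟩ := hg
    obtain ⟨b1, b2, b3, b4, b5⟩ := h1
    apply Subtype.ext
    refine GU.ext (b1.trans a1.symm) (b2.trans a2.symm) (b3.trans a3.symm) (b4.trans a4.symm) (b5.trans a5.symm) ?_
    rw [h2, one_mul]
    rfl
  have hζ : ∀ g : Qa K, ((g⁻¹ * κ.1 g : Qa K) : GU K) ∈ Z1 K := by
    intro g
    have h1 := hκ g
    have hg : (g : GU K).a = 0 := g.2
    have hg' : ((κ.1 g : Qa K) : GU K).a = 0 := (κ.1 g).2
    have e0 : ((κ.1 g : Qa K) : GU K).b = (g : GU K).b := congrFun h1 0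
    have e1 : ((κ.1 g : Qa K) : GU K).c = (g : GU K).c := congrFun h1 1
    have e2 : ((κ.1 g : Qa K) : GU K).d = (g : GU K).d := congrFun h1 2
    have e3 : ((κ.1 g : Qa K) : GU K).e = (g : GU K).e := congrFun h1 3
    refine ⟨(g⁻¹ * κ.1 g).2, ?_, ?_, ?_, ?_⟩ <;>
      simp only [Subgroup.coe_mul, Subgroup.coe_inv, GU.mul_b, GU.mul_c, GU.mul_d, GU.mul_e, GU.inv_b, GU.inv_c, GU.inv_d,
        GU.inv_e, hg, hg', e0, e1, e2, e3] <;> ring
  have hpow : ∀ (k : ℕ) (g : Qa K), ((κ ^ k : Γ) : MulAut (Qa K)) g = g * (g⁻¹ * κ.1 g) ^ k := by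
    intro k
    induction k with
    | zero =>
      intro g
      rw [pow_zero, pow_zero, mul_one]
      rfl
    | succ k ih =>
      intro g
      rw [pow_succ']
      show κ.1 (((κ ^ k : Γ) : MulAut (Qa K)) g) = _
      rw [ih, map_mul, map_pow, hz1 _ (hζ g), pow_succ', ← mul_assoc, mul_inv_cancel_left]
  have hzp : ∀ z : Qa K, (z : GU K) ∈ Z1 K → z ^ p = 1 := by
    rintro z ⟨a1, a2, a3, a4, a5⟩
    have h1 : ∀ k : ℕ, ((z ^ k : Qa K) : GU K) = ⟨0, 0, 0, 0, 0, k * (z : GU K).f⟩ := by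
      intro k
      induction k with
      | zero =>
        rw [pow_zero]
        refine GU.ext rfl rfl rfl rfl rfl ?_
        show (0 : K) = ((0 : ℕ) : K) * _
        simp
      | succ k ih =>
        rw [pow_succ, Subgroup.coe_mul, ih]
        ext
        · simp [a1]
        · simp [a2]
        · simp [a1, a3]
        · simp [a1, a4]
        · simp [a1, a5]
        · simp [a1, a2]
          ring
    apply Subtype.ext
    rw [h1, CharP.cast_eq_zero, zero_mul]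
    rfl
  apply Subtype.ext
  apply MulEquiv.ext
  intro g
  rw [hpow, hzp _ (hζ g), mul_one]
  rfl

theorem K0_normal (hact : ∀ γ ∈ Γ, ∃ M τ m, m ≠ 0 ∧ Acts γ M τ m) : (K0 Γ).Normal := by
  refine ⟨fun κ hκ γ g => ?_⟩
  obtain ⟨M, τ, m, -, h⟩ := hact γ.1 γ.2
  show co ((γ.1 (κ.1 (γ.1⁻¹ g)) : Qa K) : GU K) = co (g : GU K)
  rw [h.V, hκ, ← h.V, MulAut.apply_inv_self]

theorem K0_le (hK : HypG K p n) (hP : Par p (Qa K) Γ D) (hact : ∀ γ ∈ Γ, ∃ M τ m, m ≠ 0 ∧ Acts γ M τ m) :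
    K0 Γ ≤ TG Γ := by
  have hfin := hK.fin
  have hfp : Fact p.Prime := ⟨hK.pp⟩
  obtain ⟨T, hT⟩ := exists_sylowP hK hP
  have hn := K0_normal hact
  have hpg : IsPGroup p (K0 Γ) := by
    rintro ⟨κ, hκ⟩
    exact ⟨1, Subtype.ext (by simpa using K0_pow hK hact hκ)⟩
  obtain ⟨Q, hQ⟩ := hpg.exists_le_sylow
  obtain ⟨g, hg⟩ := MulAction.exists_smul_eq Γ Q T
  intro κ hκ
  have h1 : κ ∈ (T : Subgroup Γ) := by
    rw [← hg, Sylow.coe_subgroup_smul]
    refine ⟨g⁻¹ * κ * g, hQ ?_, ?_⟩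
    · have := hn.conj_mem κ hκ g⁻¹
      rwa [inv_inv] at this
    · show g * (g⁻¹ * κ * g) * g⁻¹ = κ
      group
  rw [hT] at h1
  exact h1

/-- the elements acting linearly on `Q_a / Z₁` and trivially on `Z₁` -/
def G0 (Γ : Subgroup (MulAut (Qa K))) : Subgroup Γ where
  carrier := {γ | ∃ M, Acts γ.1 M (RingEquiv.refl K) 1}
  one_mem' := ⟨1, Acts.one⟩
  mul_mem' := by
    rintro γ γ' ⟨M, h⟩ ⟨M', h'⟩
    have := h.mul' h'
    rw [mul_one] at this
    exact ⟨_, this⟩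
  inv_mem' := by
    rintro γ ⟨M, h⟩
    have := h.lin_inv one_ne_zero
    rw [inv_one] at this
    exact ⟨_, this⟩

theorem G0_conj (hact : ∀ γ ∈ Γ, ∃ M τ m, m ≠ 0 ∧ Acts γ M τ m) (γ : Γ) {y : Γ} (hy : y ∈ G0 Γ) :
    γ * y * γ⁻¹ ∈ G0 Γ := by
  obtain ⟨Y, hY⟩ := hy
  obtain ⟨M, τ, m, -, h⟩ := hact γ.1 γ.2
  obtain ⟨M', τ', m', -, h'⟩ := hact γ.1⁻¹ (Γ.inv_mem γ.2)
  exact conj_lin h h' hY

theorem TG_le_G0 : TG Γ ≤ G0 Γ := by
  intro c hc
  obtain ⟨a, ha⟩ := acts_TG hc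
  exact ⟨_, ha⟩

/-- basis elements -/
noncomputable def bas (j : Fin 4) : Qa K := (co_surj (K := K) (Pi.single j 1)).choose

theorem co_bas (j : Fin 4) : co ((bas j : Qa K) : GU K) = Pi.single j 1 := (co_surj (K := K) (Pi.single j 1)).choose_spec

/-- the matrix of a linear element -/
noncomputable def matOf (γ : MulAut (Qa K)) : Matrix (Fin 4) (Fin 4) K :=
  Matrix.of fun i j => co ((γ (bas j) : Qa K) : GU K) i

theorem Acts.eq_matOf {γ : MulAut (Qa K)} {M : Matrix (Fin 4) (Fin 4) K} {m : K} (h : Acts γ M (RingEquiv.refl K) m) :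
    M = matOf γ := by
  ext i j
  rw [matOf, Matrix.of_apply, h.V, co_bas]
  show M i j = M.mulVec (Pi.single j 1) i
  simp

/-- the linear representation -/
noncomputable def lin (Γ : Subgroup (MulAut (Qa K))) : G0 Γ →* GL (Fin 4) K :=
  MonoidHom.toHomUnits
    { toFun := fun γ => matOf γ.1.1
      map_one' := (Acts.eq_matOf Acts.one).symm
      map_mul' := fun γ γ' => by
        obtain ⟨M, h⟩ := γ.2
        obtain ⟨M', h'⟩ := γ'.2
        have h1 := (h.mul' h').eq_matOf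
        rw [← h.eq_matOf, ← h'.eq_matOf]
        exact h1.symm }

theorem lin_coe (γ : G0 Γ) : ((lin Γ γ : GL (Fin 4) K) : Matrix (Fin 4) (Fin 4) K) = matOf γ.1.1 := rfl

theorem lin_acts (γ : G0 Γ) : Acts γ.1.1 ((lin Γ γ : GL (Fin 4) K) : Matrix (Fin 4) (Fin 4) K) (RingEquiv.refl K) 1 := by
  obtain ⟨M, h⟩ := γ.2
  rw [lin_coe, ← h.eq_matOf]
  exact h

theorem lin_ker : (lin Γ).ker = (K0 Γ).subgroupOf (G0 Γ) := by
  ext γ
  rw [MonoidHom.mem_ker, Subgroup.mem_subgroupOf]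
  have h := lin_acts γ
  constructor
  · intro h1 g
    rw [h1] at h
    rw [h.V, Units.val_one, Matrix.one_mulVec]
    rfl
  · intro h1
    apply Units.ext
    rw [Units.val_one]
    exact ((uniqV (γ := γ.1.1) (M := 1) (τ := RingEquiv.refl K) (fun g => by
      rw [Matrix.one_mulVec]
      exact h1 g) h.V 0 0 (by simp)).1).symm

theorem lin_form (γ : G0 Γ) : ((lin Γ γ : GL (Fin 4) K) : Matrix (Fin 4) (Fin 4) K).transpose * Om *
    ((lin Γ γ : GL (Fin 4) K) : Matrix (Fin 4) (Fin 4) K) = Om := by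
  rw [(lin_acts γ).form, one_smul]

end Cfsg.Agent.H949.GT
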