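import Cfsg.Agent.H779.G2.Stmts3

/-!
# S5211, the short root parabolic (helper949): matrices
-/

set_option autoImplicit false

namespace Cfsg.Agent.H949.GT

open Cfsg.Agent.H779.G2 Matrix

universe u

variable {K : Type u} [Field K]

theorem dl_eq (g : Kˣ) (j : Fin 4) :
    (![(g : K) ^ 2, (g : K), 1, (g : K)⁻¹] : Fin 4 → K) j = ((g ^ (2 - ((j : ℕ) : ℤ)) : Kˣ) : K) := by
  fin_cases j
  · simp [zpow_ofNat]
  · simp
  · simp
  · simp

theorem zpow_small {G : Type*} [Group G] {g : G} (hord : 7 ≤ orderOf g) {k : ℤ} (h : g ^ k = 1) (h1 : -7 < k) (h2 : k < 7) :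
    k = 0 := by
  have h3 : (orderOf g : ℤ) ∣ k := orderOf_dvd_iff_zpow_eq_one.2 h
  by_contra hk
  have h4 := Int.le_of_dvd (abs_pos.2 hk) ((dvd_abs _ _).2 h3)
  have h5 : |k| < 7 := abs_lt.2 ⟨h1, h2⟩
  omega

/-- a matrix conjugating a geometric progression of large order into a geometric progression -/
theorem mono {g : Kˣ} (hord : 7 ≤ orderOf g) {W : Matrix (Fin 4) (Fin 4) K} (hW : IsUnit W) {a s : K} (h : W * diagonal ![(g : K) ^ 2, (g : K), 1, (g : K)⁻¹] =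
      diagonal ![a, s * a, s ^ 2 * a, s ^ 3 * a] * W) :
    (∀ i j, i ≠ j → W i j = 0) ∨ (∀ i j : Fin 4, (i : ℕ) + (j : ℕ) ≠ 3 → W i j = 0) := by
  have hdet : W.det ≠ 0 := by
    have := (Matrix.isUnit_iff_isUnit_det W).1 hW
    exact this.ne_zero
  -- entries
  have hent : ∀ i j, W i j ≠ 0 → ((g ^ (2 - ((j : ℕ) : ℤ)) : Kˣ) : K) = s ^ (i : ℕ) * a := by
    intro i j hij
    have h1 := congrFun (congrFun h i) j
    rw [Matrix.mul_diagonal, Matrix.diagonal_mul, dl_eq, mul_comm] at h1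
    have h2 := mul_right_cancel₀ hij h1
    rw [h2]
    fin_cases i <;> simp
  have hrow : ∀ i, ∃ j, W i j ≠ 0 := by
    intro i
    by_contra hcon
    push Not at hcon
    exact hdet (Matrix.det_eq_zero_of_row_eq_zero i hcon)
  choose j hj using hrow
  have huniq : ∀ i j', W i j' ≠ 0 → j' = j i := by
    intro i j' hj'
    have h1 := (hent i j' hj').trans (hent i (j i) (hj i)).symm
    have h2 : g ^ (2 - ((j' : ℕ) : ℤ)) = g ^ (2 - ((j i : ℕ) : ℤ)) := Units.ext h1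
    have h3 : g ^ ((2 - ((j' : ℕ) : ℤ)) - (2 - ((j i : ℕ) : ℤ))) = 1 := by
      rw [_root_.zpow_sub, h2, mul_inv_cancel]
    have h4 := zpow_small hord h3 (by omega) (by omega)
    ext
    omega
  have hap : ∀ i₀ i₁ i₂ : Fin 4, (i₀ : ℕ) + (i₂ : ℕ) = 2 * (i₁ : ℕ) →
      ((j i₀ : ℕ) : ℤ) + ((j i₂ : ℕ) : ℤ) = 2 * ((j i₁ : ℕ) : ℤ) := by
    intro i₀ i₁ i₂ hi
    have h0 := hent i₀ _ (hj i₀)
    have h1 := hent i₁ _ (hj i₁)
    have h2 := hent i₂ _ (hj i₂)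
    have h3 : ((g ^ (2 - ((j i₀ : ℕ) : ℤ)) * g ^ (2 - ((j i₂ : ℕ) : ℤ)) : Kˣ) : K) =
        ((g ^ (2 - ((j i₁ : ℕ) : ℤ)) * g ^ (2 - ((j i₁ : ℕ) : ℤ)) : Kˣ) : K) := by
      rw [Units.val_mul, Units.val_mul, h0, h1, h2]
      have : s ^ (i₀ : ℕ) * a * (s ^ (i₂ : ℕ) * a) = s ^ ((i₀ : ℕ) + (i₂ : ℕ)) * a ^ 2 := by ring
      rw [this, hi]
      ring
    have h4 := Units.ext h3
    rw [← _root_.zpow_add, ← _root_.zpow_add] at h4
    have h5 : g ^ ((2 - ((j i₀ : ℕ) : ℤ) + (2 - ((j i₂ : ℕ) : ℤ))) - (2 - ((j i₁ : ℕ) : ℤ) + (2 - ((j i₁ : ℕ) : ℤ)))) = 1 := by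
      rw [_root_.zpow_sub, h4, mul_inv_cancel]
    have h6 := zpow_small hord h5 (by omega) (by omega)
    omega
  have e1 := hap 0 1 2 rfl
  have e2 := hap 1 2 3 rfl
  have hz : ∀ i j', j' ≠ j i → W i j' = 0 := fun i j' hne => by
    by_contra hcon
    exact hne (huniq i j' hcon)
  have hcases : ((j 0 : ℕ) = j 1 ∧ (j 1 : ℕ) = j 2 ∧ (j 2 : ℕ) = j 3) ∨
      ((j 0 : ℕ) = 0 ∧ (j 1 : ℕ) = 1 ∧ (j 2 : ℕ) = 2 ∧ (j 3 : ℕ) = 3) ∨
      ((j 0 : ℕ) = 3 ∧ (j 1 : ℕ) = 2 ∧ (j 2 : ℕ) = 1 ∧ (j 3 : ℕ) = 0) := by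
    have b0 := (j 0).2
    have b1 := (j 1).2
    have b2 := (j 2).2
    have b3 := (j 3).2
    omega
  rcases hcases with ⟨h0, h1, h2⟩ | ⟨h0, h1, h2, h3⟩ | ⟨h0, h1, h2, h3⟩
  · exfalso
    obtain ⟨c, hc⟩ : ∃ c : Fin 4, c ≠ j 0 := exists_ne _
    refine hdet (Matrix.det_eq_zero_of_column_eq_zero c fun i => hz i c ?_)
    have : j i = j 0 := by
      ext
      fin_cases i
      · rfl
      · exact h0.symm
      · exact (h0.trans h1).symm
      · exact (h0.trans (h1.trans h2)).symm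
    rw [this]
    exact hc
  · left
    intro i j' hij
    refine hz i j' fun h4 => hij ?_
    rw [h4]
    ext
    fin_cases i
    · exact h0.symm
    · exact h1.symm
    · exact h2.symm
    · exact h3.symm
  · right
    intro i j' hij
    refine hz i j' fun h4 => hij ?_
    rw [h4]
    fin_cases i
    · show 0 + (j 0 : ℕ) = 3
      omega
    · show 1 + (j 1 : ℕ) = 3
      omega
    · show 2 + (j 2 : ℕ) = 3
      omega
    · show 3 + (j 3 : ℕ) = 3
      omega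

/-- the standard Weyl matrix -/
def Wm : Matrix (Fin 4) (Fin 4) K := !![0, 0, 0, 1; 0, 0, -1, 0; 0, 1, 0, 0; -1, 0, 0, 0]

/-- the antidiagonal matrix -/
def ad (x y z t : K) : Matrix (Fin 4) (Fin 4) K := !![0, 0, 0, x; 0, 0, y, 0; 0, z, 0, 0; t, 0, 0, 0]

theorem Wm_eq : (Wm : Matrix (Fin 4) (Fin 4) K) = ad 1 (-1) 1 (-1) := rfl

/-- an antidiagonal matrix -/
theorem eq_ad {W : Matrix (Fin 4) (Fin 4) K} (h : ∀ i j : Fin 4, (i : ℕ) + (j : ℕ) ≠ 3 → W i j = 0) :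
    W = ad (W 0 3) (W 1 2) (W 2 1) (W 3 0) := by
  ext i j
  fin_cases i <;> fin_cases j
  all_goals first
    | exact h _ _ (by decide)
    | rfl

theorem ad_mul_inv {x y z t : K} (hx : x ≠ 0) (hy : y ≠ 0) (hz : z ≠ 0) (ht : t ≠ 0) :
    ad x y z t * ad t⁻¹ z⁻¹ y⁻¹ x⁻¹ = 1 := by
  ext i j
  fin_cases i <;> fin_cases j <;> simp [ad, Matrix.mul_apply, Fin.sum_univ_four, hx, hy, hz, ht]

/-- `diag(t², t, 1, t⁻¹)` -/
def dl (t : K) : Matrix (Fin 4) (Fin 4) K := diagonal ![t ^ 2, t, 1, t⁻¹]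

theorem dl_mul_inv {t : K} (ht : t ≠ 0) : dl t * dl t⁻¹ = 1 := by
  rw [dl, dl, Matrix.diagonal_mul_diagonal, ← Matrix.diagonal_one]
  congr 1
  ext i
  fin_cases i
  · simp [ht]
  · simp [ht]
  · simp
  · simp [ht]

theorem dl_Xm {t : K} (ht : t ≠ 0) (a : K) : dl t * Xm (t * a) = Xm a * dl t := by
  ext i j
  fin_cases i <;> fin_cases j <;> simp [dl, Xm, Matrix.diagonal_mul, Matrix.mul_diagonal]
  all_goals first
    | done
    | (field_simp)

theorem dl_ad {t' : K} (ht' : t' ≠ 0) (x y z t : K) :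
    dl t' * ad x y z t * dl t'⁻¹ = ad (t' ^ 3 * x) (t' * y) (t'⁻¹ * z) (t'⁻¹ ^ 3 * t) := by
  ext i j
  fin_cases i <;> fin_cases j <;>
    simp [dl, ad, Matrix.mul_apply, Matrix.diagonal_apply]
  all_goals first
    | done
    | (field_simp)

theorem dl_Wm {u : K} (hu : u ≠ 0) :
    dl u * (ad 1 (-1) 1 (-1) * dl u⁻¹ * ad (-1) 1 (-1) 1) = diagonal ![u ^ 3, u, u⁻¹, u⁻¹ ^ 3] := by
  have h : dl u * (ad 1 (-1) 1 (-1) * dl u⁻¹ * ad (-1) 1 (-1) 1) =
      (dl u * ad 1 (-1) 1 (-1) * dl u⁻¹) * ad (-1) 1 (-1) 1 := by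
    simp only [Matrix.mul_assoc]
  rw [h, dl_ad hu]
  ext i j
  fin_cases i <;> fin_cases j <;> simp [ad, Matrix.mul_apply, Fin.sum_univ_four]

/-- the isometry condition -/
theorem ad_form {x y z t : K} (h3 : (3 : K) ≠ 0) (h : (ad x y z t).transpose * Om * ad x y z t = Om) :
    t * x = -1 ∧ z * y = -1 := by
  constructor
  · have h1 := congrFun (congrFun h 0) 3
    simp [ad, Om, Matrix.mul_apply, Fin.sum_univ_four] at h1
    linear_combination -h1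
  · have h1 := congrFun (congrFun h 1) 2
    simp [ad, Om, Matrix.mul_apply, Fin.sum_univ_four] at h1
    have h2 : 3 * (z * y + 1) = 0 := by linear_combination h1
    have h4 := (mul_eq_zero.1 h2).resolve_left h3
    linear_combination h4

theorem form_ad {x y z t : K} (h1 : t * x = -1) (h2 : z * y = -1) :
    (ad x y z t).transpose * Om * ad x y z t = Om := by
  ext i j
  fin_cases i <;> fin_cases j <;> simp [ad, Om, Matrix.mul_apply, Fin.sum_univ_four]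
  · linear_combination -h1
  · linear_combination 3 * h2
  · linear_combination (-3) * h2
  · linear_combination h1

theorem Xm_inj {a b : K} (h : (Xm a : Matrix (Fin 4) (Fin 4) K) = Xm b) : a = b := by
  have h1 := congrFun (congrFun h 1) 0
  simpa [Xm] using h1

theorem Xm_zero : (Xm 0 : Matrix (Fin 4) (Fin 4) K) = 1 := by
  ext i j
  fin_cases i <;> fin_cases j <;> simp [Xm]

theorem Xm_mul (a b : K) : (Xm a * Xm b : Matrix (Fin 4) (Fin 4) K) = Xm (a + b) := by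
  ext i j
  fin_cases i <;> fin_cases j <;> simp [Xm, Matrix.mul_apply, Fin.sum_univ_four] <;> ring

end Cfsg.Agent.H949.GT
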