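import Cfsg.Agent.H302.PU.FFAbs

/-!
# S5211, additions to the engine (helper949): the natural module in the failure-of-factorization lemma

`nat_perf` : the hypotheses of `H302.PU.ff_perf` give coordinates `ψ : V → F²`, `ρ : H ≃* SL₂(F)`; the beginning of the
proof is the one of helper302.
-/

set_option autoImplicit false

namespace Cfsg.Agent.H949.GT

open Cfsg
open scoped commutatorElement
open Cfsg.Agent.LieClassical.SLTwoUnipotent
open Cfsg.Agent.H302.PU

/-- coordinates for a natural `SL₂(F)`-module, modulo the fixed points -/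
structure NatDat {V H : Type*} [Group V] [Group H] (φ : H →* MulAut V) (P : Subgroup H) (F : Type) [Field F] where
  ρ : H ≃* Matrix.SpecialLinearGroup (Fin 2) F
  ψ : V → Fin 2 → F
  mul : ∀ v w, ψ (v * w) = ψ v + ψ w
  surj : Function.Surjective ψ
  ker : ∀ v, ψ v = 0 ↔ ∀ h, φ h v = v
  act : ∀ h v, ψ (φ h v) = (ρ h : Matrix (Fin 2) (Fin 2) F).mulVec (ψ v)
  mem : ∀ h, h ∈ P ↔ ρ h ∈ upperUnipSL F

theorem nat_perf {V H : Type*} [Group V] [Finite V] [Group H] [Finite H] {p : ℕ} [Fact p.Prime]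
    (hVc : ∀ a b : V, a * b = b * a) (hVp : ∀ v : V, v ^ p = 1) (φ : H →* MulAut V) (hφ : Function.Injective φ)
    (hgenH : Subgroup.closure {x : H | ∃ k : ℕ, orderOf x = p ^ k} = ⊤)
    (X : Subgroup H) (hX : IsStronglyPEmbedded p X) (P : Sylow p H)
    (hVgen : ∀ W : Subgroup V, (∀ g : H, ∀ w ∈ W, φ g w ∈ W) →
      (∀ v : V, (∀ t ∈ (P : Subgroup H), φ t v = v) → v ∈ W) → W = ⊤)
    (A : Subgroup H) (hA1 : A ≠ ⊥) (hAc : ∀ a ∈ A, ∀ b ∈ A, a * b = b * a) (hAp : ∀ a ∈ A, a ^ p = 1)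
    (C : Subgroup V) (hC : ∀ v : V, v ∈ C → ∀ a ∈ A, φ a v = v)
    (hcard : Nat.card V ≤ Nat.card A * Nat.card C) :
    ∃ (F : Type) (_ : Field F) (_ : Fintype F), CharP F p ∧ Nonempty (NatDat φ (P : Subgroup H) F) := by
  classical
  have hp : p.Prime := Fact.out
  have : Finite (V ⋊[φ] H) := Finite.of_equiv _ (SemidirectProduct.equivProd).symm
  set V' : Subgroup (V ⋊[φ] H) := (SemidirectProduct.inl : V →* V ⋊[φ] H).range with hV'
  set H' : Subgroup (V ⋊[φ] H) := (SemidirectProduct.inr : H →* V ⋊[φ] H).range with hH'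
  let e : H ≃* H' := MonoidHom.ofInjective SemidirectProduct.inr_injective
  have he : ∀ h : H, ((e h : H') : V ⋊[φ] H) = SemidirectProduct.inr h := fun h => rfl
  have hinl : Function.Injective (SemidirectProduct.inl : V → V ⋊[φ] H) := SemidirectProduct.inl_injective
  have hinr : Function.Injective (SemidirectProduct.inr : H → V ⋊[φ] H) := SemidirectProduct.inr_injective
  have hV'n : V'.Normal := by
    rw [hV', SemidirectProduct.range_inl_eq_ker_rightHom]
    infer_instance
  have hact : ∀ (h : H) (v : V), (SemidirectProduct.inr h : V ⋊[φ] H) * SemidirectProduct.inl v *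
      (SemidirectProduct.inr h)⁻¹ = SemidirectProduct.inl (φ h v) := by
    intro h v
    rw [SemidirectProduct.inl_aut, map_inv]
  -- the Sylow subgroup of `H'`
  let P' : Sylow p H' := P.mapSurjective e.surjective
  have hP' : ((P' : Subgroup H') : Subgroup H') = (P : Subgroup H).map e.toMonoidHom := rfl
  have hmemP' : ∀ h : H, e h ∈ (P' : Subgroup H') ↔ h ∈ (P : Subgroup H) := by
    intro h
    rw [hP', Subgroup.mem_map_equiv, MulEquiv.symm_apply_apply]
  set T : Subgroup (V ⋊[φ] H) := (P' : Subgroup H').map H'.subtype with hT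
  have hmemT : ∀ x, x ∈ T ↔ ∃ a ∈ (P : Subgroup H), SemidirectProduct.inr a = x := by
    intro x
    rw [hT, Subgroup.mem_map]
    constructor
    · rintro ⟨y, hy, rfl⟩
      obtain ⟨a, rfl⟩ := e.surjective y
      exact ⟨a, (hmemP' a).1 hy, rfl⟩
    · rintro ⟨a, ha, rfl⟩
      exact ⟨e a, (hmemP' a).2 ha, rfl⟩
  have hTH : T ≤ H' := by
    rw [hT]
    exact Subgroup.map_subtype_le _
  have hcentV : ∀ h : H, (SemidirectProduct.inr h : V ⋊[φ] H) ∈ Subgroup.centralizer (V' : Set (V ⋊[φ] H)) →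
      h = 1 := by
    intro h hh
    apply hφ
    rw [map_one]
    apply MulEquiv.ext
    intro v
    rw [MulAut.one_apply]
    have h1 := Subgroup.mem_centralizer_iff.1 hh (SemidirectProduct.inl v) ⟨v, rfl⟩
    apply hinl
    rw [← hact, ← h1]
    group
  -- fixed points
  have hfixg : ∀ (B : Subgroup H) (v : V), (SemidirectProduct.inl v : V ⋊[φ] H) ∈
      Subgroup.centralizer ((B.map (SemidirectProduct.inr : H →* V ⋊[φ] H) : Subgroup (V ⋊[φ] H)) :
        Set (V ⋊[φ] H)) ↔ ∀ a ∈ B, φ a v = v := by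
    intro B v
    rw [Subgroup.mem_centralizer_iff]
    constructor
    · intro h a ha
      have h1 := h (SemidirectProduct.inr a) ⟨a, ha, rfl⟩
      apply hinl
      rw [← hact, h1]
      group
    · rintro h _ ⟨a, ha, rfl⟩
      have h1 := hact a v
      rw [h a ha] at h1
      exact mul_inv_eq_iff_eq_mul.1 h1
  have hTmap : T = (P : Subgroup H).map (SemidirectProduct.inr : H →* V ⋊[φ] H) := by
    ext x
    rw [hmemT]
    rfl
  have hfix : ∀ v : V, (SemidirectProduct.inl v : V ⋊[φ] H) ∈ Subgroup.centralizer (T : Set (V ⋊[φ] H)) ↔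
      ∀ a ∈ (P : Subgroup H), φ a v = v := by
    intro v
    rw [hTmap]
    exact hfixg _ v
  have hIE : Cfsg.IsElementaryAbelian p V' := by
    refine ⟨⟨⟨?_⟩⟩, ?_⟩
    · rintro ⟨_, a, rfl⟩ ⟨_, b, rfl⟩
      apply Subtype.ext
      show SemidirectProduct.inl a * SemidirectProduct.inl b = SemidirectProduct.inl b * SemidirectProduct.inl a
      rw [← map_mul, ← map_mul, hVc]
    · rintro _ ⟨a, rfl⟩
      rw [← map_pow, hVp, map_one]
  have htop : V' ⊔ H' = ⊤ := by
    rw [eq_top_iff]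
    intro x _
    rw [← SemidirectProduct.inl_left_mul_inr_right x]
    exact Subgroup.mul_mem_sup ⟨_, rfl⟩ ⟨_, rfl⟩
  have hf : H' ⊓ Subgroup.centralizer (V' : Set (V ⋊[φ] H)) = ⊥ := by
    rw [eq_bot_iff]
    rintro x ⟨⟨h, rfl⟩, hx2⟩
    rw [hcentV h hx2, map_one]
    exact Subgroup.mem_bot.2 rfl
  have hgen' : Cfsg.pElementClosure p H' = H' := by
    apply le_antisymm
    · unfold pElementClosure
      rw [Subgroup.closure_le]
      rintro x ⟨hx, -⟩
      exact hx
    · have h1 : H' = (Subgroup.closure {x : H | ∃ k : ℕ, orderOf x = p ^ k}).map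
          (SemidirectProduct.inr : H →* V ⋊[φ] H) := by
        rw [hgenH, ← MonoidHom.range_eq_map]
      refine h1.le.trans ?_
      rw [MonoidHom.map_closure, Subgroup.closure_le]
      rintro _ ⟨x, ⟨k, hk⟩, rfl⟩
      apply Subgroup.subset_closure
      refine ⟨⟨x, rfl⟩, k, ?_⟩
      rw [orderOf_injective _ hinr, hk]
  have hX' := strong_map e hX
  have hAfix : Nat.card C ≤ Nat.card ↥(V' ⊓ Subgroup.centralizer
      ((A.map (SemidirectProduct.inr : H →* V ⋊[φ] H) : Subgroup (V ⋊[φ] H)) : Set (V ⋊[φ] H))) := by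
    apply Nat.card_le_card_of_injective (fun v : C =>
        (⟨SemidirectProduct.inl (v : V), ⟨⟨v, rfl⟩, (hfixg A v).2 (hC v v.2)⟩⟩ :
          ↥(V' ⊓ Subgroup.centralizer ((A.map (SemidirectProduct.inr : H →* V ⋊[φ] H) :
            Subgroup (V ⋊[φ] H)) : Set (V ⋊[φ] H)))))
    intro v w hvw
    apply Subtype.ext
    have := congrArg Subtype.val hvw
    exact hinl this
  have hcardV : Nat.card V' = Nat.card V :=
    Nat.card_congr (MonoidHom.ofInjective SemidirectProduct.inl_injective).symm.toEquiv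
  have hcardA : Nat.card (A.map (SemidirectProduct.inr : H →* V ⋊[φ] H)) = Nat.card A :=
    Nat.card_congr (Subgroup.equivMapOfInjective _ _ hinr).symm.toEquiv
  have hFF : Cfsg.IsFFModuleFor p V' H' := by
    refine ⟨?_, A.map (SemidirectProduct.inr : H →* V ⋊[φ] H), ?_, ?_, ?_, ?_, ?_, ?_⟩
    · rw [Subgroup.normalizer_eq_top]
      exact le_top
    · rintro _ ⟨a, _, rfl⟩
      exact ⟨a, rfl⟩
    · rw [Subgroup.normalizer_eq_top]
      exact le_top
    · rw [Subgroup.commutator_le]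
      rintro _ ⟨a, ha, rfl⟩ _ ⟨b, hb, rfl⟩
      have : ⁅(SemidirectProduct.inr a : V ⋊[φ] H), (SemidirectProduct.inr b : V ⋊[φ] H)⁆ = 1 := by
        rw [commutatorElement_eq_one_iff_mul_comm, ← map_mul, hAc a ha b hb, map_mul]
      rw [this]
      exact Subgroup.one_mem _
    · rintro _ ⟨a, ha, rfl⟩
      rw [← map_pow, hAp a ha, map_one]
      exact Subgroup.one_mem _
    · intro hle
      apply hA1
      rw [eq_bot_iff]
      intro a ha
      rw [Subgroup.mem_bot]
      exact hcentV a (hle ⟨a, ha, rfl⟩)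
    · have h0 : A.map (SemidirectProduct.inr : H →* V ⋊[φ] H) ⊓
          Subgroup.centralizer (V' : Set (V ⋊[φ] H)) = ⊥ := by
        rw [eq_bot_iff]
        rintro _ ⟨⟨a, ha, rfl⟩, hx2⟩
        rw [hcentV a hx2, map_one]
        exact Subgroup.mem_bot.2 rfl
      rw [h0, Subgroup.card_bot, mul_one, hcardV, hcardA]
      exact hcard.trans (Nat.mul_le_mul_left _ hAfix)
  have hVgen' : ∀ W : Subgroup (V ⋊[φ] H), H' ≤ Subgroup.normalizer (W : Set (V ⋊[φ] H)) →
      (V' ⊓ Subgroup.centralizer ((T : Subgroup (V ⋊[φ] H)) : Set (V ⋊[φ] H))) ≤ W → V' ≤ W := by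
    intro W hW1 hW2
    have h1 := hVgen (W.comap (SemidirectProduct.inl : V →* V ⋊[φ] H)) (fun g w hw => by
      rw [Subgroup.mem_comap] at hw ⊢
      rw [← hact]
      exact (Subgroup.mem_normalizer_iff.1 (hW1 ⟨g, rfl⟩) _).1 hw) (fun v hv => by
      rw [Subgroup.mem_comap]
      exact hW2 ⟨⟨v, rfl⟩, (hfix v).2 hv⟩)
    rintro _ ⟨v, rfl⟩
    have : v ∈ (W.comap (SemidirectProduct.inl : V →* V ⋊[φ] H)) := by rw [h1]; trivial
    exact this
  have hcentH : ∀ v : V, (SemidirectProduct.inl v : V ⋊[φ] H) ∈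
      Subgroup.centralizer ((H' : Subgroup (V ⋊[φ] H)) : Set (V ⋊[φ] H)) ↔ ∀ h : H, φ h v = v := by
    intro v
    have h1 := hfixg ⊤ v
    rw [← MonoidHom.range_eq_map] at h1
    rw [h1]
    simp
  have hnor : (V' ⊓ Subgroup.centralizer ((H' : Subgroup (V ⋊[φ] H)) : Set (V ⋊[φ] H))).Normal := by
    refine ⟨fun x hx g => ?_⟩
    obtain ⟨⟨v, rfl⟩, hx2⟩ := hx
    have h1 := (hcentH v).1 hx2
    have h2 : g * SemidirectProduct.inl v * g⁻¹ = SemidirectProduct.inl v := by
      rw [← SemidirectProduct.inl_left_mul_inr_right g]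
      have h3 := hact g.right v
      rw [h1] at h3
      calc (SemidirectProduct.inl g.left * SemidirectProduct.inr g.right) * SemidirectProduct.inl v *
            (SemidirectProduct.inl g.left * SemidirectProduct.inr g.right)⁻¹
          = SemidirectProduct.inl g.left * ((SemidirectProduct.inr g.right) * SemidirectProduct.inl v *
            (SemidirectProduct.inr g.right)⁻¹) * (SemidirectProduct.inl g.left)⁻¹ := by group
        _ = SemidirectProduct.inl v := by
            rw [h3, ← map_inv, ← map_mul, ← map_mul, hVc g.left v]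
            congr 1
            group
    rw [h2]
    exact ⟨⟨v, rfl⟩, hx2⟩
  obtain ⟨F, hF1, hF2, ⟨iso⟩, hnat⟩ := Cfsg.Agent.S2789.result (p := p) V' H' hIE
    (by rw [Subgroup.normalizer_eq_top]; exact le_top) hf htop hgen' _ hX' P' T hT hVgen' hFF
  set C0 : Subgroup (V ⋊[φ] H) := V' ⊓ Subgroup.centralizer ((H' : Subgroup (V ⋊[φ] H)) : Set (V ⋊[φ] H)) with hC0
  set π : V ⋊[φ] H →* (V ⋊[φ] H) ⧸ C0 := QuotientGroup.mk' C0 with hπ
  have hker : ∀ x, π x = 1 ↔ x ∈ C0 := fun x => QuotientGroup.eq_one_iff x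
  -- the field has characteristic `p`
  have hnat' := hnat
  obtain ⟨hLn, ρ, ψ, hρs, hρk, hρa⟩ := hnat
  have hpF : (p : F) = 0 := by
    obtain ⟨v, hv⟩ := ψ.surjective (fun _ => (1 : F))
    have h1 : p • v = 0 := by
      obtain ⟨v', rfl⟩ := Additive.ofMul.surjective v
      obtain ⟨_, _, ⟨u, rfl⟩, rfl⟩ := v'
      rw [← ofMul_pow]
      apply Additive.toMul.injective
      apply Subtype.ext
      show (π (SemidirectProduct.inl u)) ^ p = 1
      rw [← map_pow, ← map_pow, hVp, map_one, map_one]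
    have h2 := congrArg ψ h1
    rw [map_nsmul, hv, map_zero] at h2
    have h3 := congrFun h2 0
    simpa using h3
  have hchar : CharP F p := (CharP.charP_iff_prime_eq_zero hp).2 hpF
  obtain ⟨n, -, hn⟩ := FiniteField.card F p
  -- `L̄ ≅ SL₂(F)`
  have hρb : Function.Bijective ρ := by
    have h1 : Nat.card ↥(H'.map π) ≤ Nat.card (Matrix.SpecialLinearGroup (Fin 2) F) := by
      rw [← Nat.card_congr iso.toEquiv]
      exact Nat.card_le_card_of_surjective (π.subgroupMap H') (π.subgroupMap_surjective H')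
    exact (Nat.bijective_iff_surjective_and_card ρ).2 ⟨hρs, le_antisymm h1 (Nat.card_le_card_of_surjective ρ hρs)⟩
  have hfb : H'.map π ⊓ Subgroup.centralizer ((V'.map π : Subgroup _) : Set ((V ⋊[φ] H) ⧸ C0)) = ⊥ := by
    rw [eq_bot_iff]
    rintro x ⟨hx1, hx2⟩
    have h1 : (⟨x, hx1⟩ : ↥(H'.map π)) ∈ ρ.ker := by
      rw [hρk, Subgroup.mem_subgroupOf]
      exact hx2
    have h2 : (⟨x, hx1⟩ : ↥(H'.map π)) = 1 := hρb.1 (by rw [map_one]; exact h1)
    exact Subgroup.mem_bot.2 (congrArg Subtype.val h2)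
  -- the Sylow subgroup
  let Pb : Sylow p ↥(H'.map π) := P'.mapSurjective (π.subgroupMap_surjective H')
  set Tb : Subgroup ((V ⋊[φ] H) ⧸ C0) := (Pb : Subgroup ↥(H'.map π)).map (H'.map π).subtype with hTb
  have hmemTb : ∀ x, x ∈ Tb ↔ ∃ a ∈ (P : Subgroup H), π (SemidirectProduct.inr a) = x := by
    intro x
    constructor
    · rintro ⟨y, ⟨z, hz, rfl⟩, rfl⟩
      obtain ⟨a, rfl⟩ := e.surjective z
      exact ⟨a, (hmemP' a).1 hz, rfl⟩
    · rintro ⟨a, ha, rfl⟩
      exact ⟨π.subgroupMap H' (e a), ⟨e a, (hmemP' a).2 ha, rfl⟩, rfl⟩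
  have hinj : Function.Injective (π.comp (SemidirectProduct.inr : H →* V ⋊[φ] H)) := by
    rw [injective_iff_map_eq_one]
    intro a ha
    have h1 := (hker _).1 ha
    obtain ⟨⟨v, hv⟩, -⟩ := h1
    have := congrArg SemidirectProduct.right hv
    simpa using this.symm
  obtain ⟨c⟩ := H569.NatSL2.exists_coord hn hnat' hfb Pb hTb
  -- transport
  have hmemL : ∀ h : H, π (SemidirectProduct.inr h) ∈ H'.map π := fun h => ⟨_, ⟨h, rfl⟩, rfl⟩
  have hmemV : ∀ v : V, π (SemidirectProduct.inl v) ∈ V'.map π := fun v => ⟨_, ⟨v, rfl⟩, rfl⟩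
  let j : H →* ↥(H'.map π) := (π.comp (SemidirectProduct.inr : H →* V ⋊[φ] H)).codRestrict _ hmemL
  have hjb : Function.Bijective j := by
    constructor
    · intro a b hab
      exact hinj (congrArg Subtype.val hab)
    · rintro ⟨_, _, ⟨a, rfl⟩, rfl⟩
      exact ⟨a, rfl⟩
  refine ⟨F, hF1, hF2, hchar, ⟨⟨(MulEquiv.ofBijective j hjb).trans c.ρ,
    fun v => c.ψ ⟨π (SemidirectProduct.inl v), hmemV v⟩, fun v w => ?_, fun z => ?_, fun v => ?_, fun h v => ?_,
    fun h => ?_⟩⟩⟩
  · rw [← c.mul]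
    congr 1
    apply Subtype.ext
    show π (SemidirectProduct.inl (v * w)) = π (SemidirectProduct.inl v) * π (SemidirectProduct.inl w)
    rw [map_mul, map_mul]
  · obtain ⟨⟨_, _, ⟨v, rfl⟩, rfl⟩, hv⟩ := c.bij.2 z
    exact ⟨v, hv⟩
  · have h1 : c.ψ ⟨π (SemidirectProduct.inl v), hmemV v⟩ = 0 ↔ π (SemidirectProduct.inl v) = 1 := by
      constructor
      · intro h2
        have h3 := c.bij.1 (h2.trans c.one.symm)
        exact congrArg Subtype.val h3
      · intro h2
        have h3 : (⟨π (SemidirectProduct.inl v), hmemV v⟩ : ↥(V'.map π)) = 1 := Subtype.ext h2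
        rw [h3]
        exact c.one
    rw [h1, hker, ← hcentH]
    exact ⟨fun h => h.2, fun h => ⟨⟨v, rfl⟩, h⟩⟩
  · refine c.act (j h) ⟨π (SemidirectProduct.inl v), hmemV v⟩ _ ?_
    show π (SemidirectProduct.inl (φ h v)) = π (SemidirectProduct.inr h) * π (SemidirectProduct.inl v) *
      (π (SemidirectProduct.inr h))⁻¹
    rw [← hact, map_mul, map_mul, map_inv]
  · show h ∈ (P : Subgroup H) ↔ c.ρ (j h) ∈ upperUnipSL F
    rw [← c.mem, show ((j h : ↥(H'.map π)) : (V ⋊[φ] H) ⧸ C0) = π (SemidirectProduct.inr h) from rfl, hmemTb]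
    constructor
    · intro hh
      exact ⟨h, hh, rfl⟩
    · rintro ⟨a, ha, hah⟩
      rwa [← hinj hah]

/-- the natural module for `O^{p'}(K)` -/
theorem nat_abs {V K : Type*} [Group V] [Finite V] [Group K] [Finite K] {p : ℕ} [Fact p.Prime]
    (hVc : ∀ a b : V, a * b = b * a) (hVp : ∀ v : V, v ^ p = 1) (φ : K →* MulAut V) (hφ : Function.Injective φ)
    (X : Subgroup K) (hX : IsStronglyPEmbedded p X) (T : Sylow p K)
    (hgen : ∀ W : Subgroup V, (∀ g : K, ∀ w ∈ W, φ g w ∈ W) →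
      (∀ v : V, (∀ t ∈ (T : Subgroup K), φ t v = v) → v ∈ W) → W = ⊤)
    (A : Subgroup K) (hAT : A ≤ (T : Subgroup K)) (hA1 : A ≠ ⊥) (hAc : ∀ a ∈ A, ∀ b ∈ A, a * b = b * a)
    (hAp : ∀ a ∈ A, a ^ p = 1) (C : Subgroup V) (hC : ∀ v : V, v ∈ C ↔ ∀ a ∈ A, φ a v = v)
    (hcard : Nat.card V ≤ Nat.card A * Nat.card C) :
    ∃ (F : Type) (_ : Field F) (_ : Fintype F), CharP F p ∧
      Nonempty (NatDat (φ.comp (pcl K p).subtype) ((T : Subgroup K).subgroupOf (pcl K p)) F) := by
  classical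
  have hTL : (T : Subgroup K) ≤ pcl K p := le_pcl T.isPGroup'
  let TL : Sylow p ↥(pcl K p) := T.subtype hTL
  have hmemTL : ∀ x : ↥(pcl K p), x ∈ (TL : Subgroup ↥(pcl K p)) ↔ (x : K) ∈ (T : Subgroup K) := fun x => Iff.rfl
  have hcardT : Nat.card (TL : Subgroup ↥(pcl K p)) = Nat.card (T : Subgroup K) :=
    Nat.card_congr (Subgroup.subgroupOfEquivOfLe hTL).toEquiv
  have hAL : A ≤ pcl K p := hAT.trans hTL
  have hcardA : Nat.card (A.subgroupOf (pcl K p)) = Nat.card A :=
    Nat.card_congr (Subgroup.subgroupOfEquivOfLe hAL).toEquiv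
  exact nat_perf (H := ↥(pcl K p)) hVc hVp (φ.comp (pcl K p).subtype)
    (hφ.comp (pcl K p).subtype_injective) closure_top_pcl _ (strong_pcl hX) TL (by
      intro W hW hWT
      -- `W` contains all conjugates of the fixed points of `T`
      have hW0 : Subgroup.closure {y : V | ∃ k : K, ∃ v : V, (∀ t ∈ (T : Subgroup K), φ t v = v) ∧ y = φ k v} = ⊤ := by
        apply hgen
        · intro g w hw
          refine Subgroup.closure_induction (p := fun w _ => φ g w ∈ Subgroup.closure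
            {y : V | ∃ k : K, ∃ v : V, (∀ t ∈ (T : Subgroup K), φ t v = v) ∧ y = φ k v}) ?_ ?_ ?_ ?_ hw
          · rintro _ ⟨k, v, hv, rfl⟩
            exact Subgroup.subset_closure ⟨g * k, v, hv, by rw [map_mul]; rfl⟩
          · rw [map_one]; exact Subgroup.one_mem _
          · intro a b _ _ ha hb
            rw [map_mul]
            exact Subgroup.mul_mem _ ha hb
          · intro a _ ha
            rw [map_inv]
            exact Subgroup.inv_mem _ ha
        · intro v hv
          exact Subgroup.subset_closure ⟨1, v, hv, by rw [map_one]; rfl⟩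
      rw [eq_top_iff, ← hW0, Subgroup.closure_le]
      rintro _ ⟨k, v, hv, rfl⟩
      obtain ⟨l, hl, n, hn, rfl⟩ := frat T k
      rw [map_mul, MulAut.mul_apply]
      apply hW ⟨l, hl⟩
      apply hWT
      intro t ht
      show φ (t : K) (φ n v) = φ n v
      rw [← MulAut.mul_apply, ← map_mul]
      have h3 : n⁻¹ * (t : K) * n ∈ (T : Subgroup K) := by
        have := (Subgroup.mem_normalizer_iff.1 (Subgroup.inv_mem _ hn) (t : K)).1 ht
        simpa using this
      have h4 : (t : K) * n = n * (n⁻¹ * (t : K) * n) := by group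
      rw [h4, map_mul, MulAut.mul_apply, hv _ h3])
    (A.subgroupOf (pcl K p))
    (by
      intro h0
      apply hA1
      rw [eq_bot_iff]
      intro a ha
      have h3 : (⟨a, hAL ha⟩ : ↥(pcl K p)) ∈ A.subgroupOf (pcl K p) := ha
      rw [h0, Subgroup.mem_bot] at h3
      exact Subgroup.mem_bot.2 (congrArg Subtype.val h3))
    (fun a ha b hb => Subtype.ext (hAc a ha b hb)) (fun a ha => Subtype.ext (hAp a ha)) C
    (fun v hv a ha => (hC v).1 hv a ha) (by rw [hcardA]; exact hcard)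

end Cfsg.Agent.H949.GT
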