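import Mathlib
import Cfsg.Agent.EvenType.StrongP

/-!
# Rank one property of a Sylow subgroup (S5211, helper949)

`R1 T` : `T` is transitive on its other conjugates, and for every other conjugate `T'` some `x y x`, `x ∈ T`, `y ∈ T'`, swaps
`T` and `T'`.
-/

set_option autoImplicit false

namespace Cfsg.Agent.H949.GT

open Cfsg.Agent.EvenType

/-- the rank one property -/
structure R1 {G : Type*} [Group G] (T : Subgroup G) : Prop where
  trans : ∀ a b : G, a ∉ Subgroup.normalizer (T : Set G) → b ∉ Subgroup.normalizer (T : Set G) →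
    ∃ x ∈ T, b⁻¹ * x * a ∈ Subgroup.normalizer (T : Set G)
  weyl : ∀ a : G, a ∉ Subgroup.normalizer (T : Set G) → ∃ x ∈ T, ∃ y ∈ T,
    a⁻¹ * (x * (a * y * a⁻¹) * x) ∈ Subgroup.normalizer (T : Set G) ∧
      x * (a * y * a⁻¹) * x * a ∈ Subgroup.normalizer (T : Set G)

theorem R1.of_sylow {G : Type*} [Group G] {p : ℕ} [Fact p.Prime] (P : Sylow p G)
    (h1 : ∀ P' P'' : Sylow p G, P' ≠ P → P'' ≠ P → ∃ x ∈ (P : Subgroup G),
      (P' : Subgroup G).map (MulAut.conj x).toMonoidHom = P'')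
    (h2 : ∀ P' : Sylow p G, P' ≠ P → ∃ x y : G, x ∈ (P : Subgroup G) ∧ x ≠ 1 ∧ y ∈ (P' : Subgroup G) ∧
      (P : Subgroup G).map (MulAut.conj (x * y * x)).toMonoidHom = P' ∧
      (P' : Subgroup G).map (MulAut.conj (x * y * x)).toMonoidHom = P) : R1 (P : Subgroup G) := by
  have hsm : ∀ a : G, ((a • P : Sylow p G) : Subgroup G) = (P : Subgroup G).map (MulAut.conj a).toMonoidHom := by
    intro a
    rw [Sylow.coe_subgroup_smul]
    rfl
  have hne : ∀ a : G, a ∉ Subgroup.normalizer ((P : Subgroup G) : Set G) → a • P ≠ P := by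
    intro a ha h
    apply ha
    rw [StrongP.mem_norm, ← hsm, h]
  refine ⟨fun a b ha hb => ?_, fun a ha => ?_⟩
  · obtain ⟨x, hx, h⟩ := h1 (a • P) (b • P) (hne a ha) (hne b hb)
    refine ⟨x, hx, ?_⟩
    rw [StrongP.mem_norm, StrongP.map_conj_mul, StrongP.map_conj_mul, ← hsm, h, hsm, ← StrongP.map_conj_mul,
      inv_mul_cancel, StrongP.map_conj_one]
  · obtain ⟨x, y, hx, -, hy, h3, h4⟩ := h2 (a • P) (hne a ha)
    rw [hsm, StrongP.mem_map_conj] at hy
    have e : a * (a⁻¹ * y * a) * a⁻¹ = y := by group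
    refine ⟨x, hx, a⁻¹ * y * a, hy, ?_, ?_⟩
    · rw [e, StrongP.mem_norm, StrongP.map_conj_mul, h3, hsm, ← StrongP.map_conj_mul, inv_mul_cancel,
        StrongP.map_conj_one]
    · rw [e, StrongP.mem_norm, StrongP.map_conj_mul, ← hsm, h4]

theorem mem_norm_comap {A B : Type*} [Group A] [Group B] (f : A →* B) (hf : Function.Surjective f) (T : Subgroup B)
    (a : A) : a ∈ Subgroup.normalizer ((T.comap f : Subgroup A) : Set A) ↔ f a ∈ Subgroup.normalizer (T : Set B) := by
  rw [Subgroup.mem_normalizer_iff, Subgroup.mem_normalizer_iff]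
  constructor
  · intro h y
    obtain ⟨x, rfl⟩ := hf y
    have := h x
    rwa [Subgroup.mem_comap, Subgroup.mem_comap, map_mul, map_mul, map_inv] at this
  · intro h x
    rw [Subgroup.mem_comap, Subgroup.mem_comap, map_mul, map_mul, map_inv]
    exact h (f x)

theorem R1.comap {A B : Type*} [Group A] [Group B] (f : A →* B) (hf : Function.Surjective f) {T : Subgroup B}
    (h : R1 T) : R1 (T.comap f) := by
  refine ⟨fun a b ha hb => ?_, fun a ha => ?_⟩
  · rw [mem_norm_comap f hf] at ha hb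
    obtain ⟨x, hx, h1⟩ := h.trans _ _ ha hb
    obtain ⟨x, rfl⟩ := hf x
    refine ⟨x, hx, ?_⟩
    rw [mem_norm_comap f hf, map_mul, map_mul, map_inv]
    exact h1
  · rw [mem_norm_comap f hf] at ha
    obtain ⟨x, hx, y, hy, h1, h2⟩ := h.weyl _ ha
    obtain ⟨x, rfl⟩ := hf x
    obtain ⟨y, rfl⟩ := hf y
    refine ⟨x, hx, y, hy, ?_, ?_⟩
    · rw [mem_norm_comap f hf]
      simpa only [map_mul, map_inv] using h1
    · rw [mem_norm_comap f hf]
      simpa only [map_mul, map_inv] using h2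

/-- from a normal subgroup to the whole group (Frattini) -/
theorem R1.extend {G : Type*} [Group G] [Finite G] {p : ℕ} [Fact p.Prime] (A : Subgroup G)
    (hA : ∀ g : G, ∀ x ∈ A, g * x * g⁻¹ ∈ A) (T : Sylow p G) (hTA : (T : Subgroup G) ≤ A)
    (h : R1 ((T : Subgroup G).subgroupOf A)) : R1 (T : Subgroup G) := by
  -- Frattini
  have hfr : ∀ g : G, ∃ a : A, ∃ n ∈ Subgroup.normalizer ((T : Subgroup G) : Set G), g = a * n := by
    intro g
    have hsm : ((g • T : Sylow p G) : Subgroup G) = (T : Subgroup G).map (MulAut.conj g).toMonoidHom := by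
      rw [Sylow.coe_subgroup_smul]
      rfl
    have h2 : ((g • T : Sylow p G) : Subgroup G) ≤ A := by
      rw [hsm]
      rintro _ ⟨x, hx, rfl⟩
      exact hA g x (hTA hx)
    obtain ⟨b, hb, hT⟩ := StrongP.sylow_conj_in (Y := A) T (g • T) hTA h2
    refine ⟨⟨b, hb⟩, b⁻¹ * g, ?_, by group⟩
    rw [StrongP.mem_norm, StrongP.map_conj_mul, ← hsm, ← hT, ← StrongP.map_conj_mul, inv_mul_cancel,
      StrongP.map_conj_one]
  have hmem : ∀ a : A, a ∈ Subgroup.normalizer (((T : Subgroup G).subgroupOf A : Subgroup A) : Set A) ↔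
      (a : G) ∈ Subgroup.normalizer ((T : Subgroup G) : Set G) := by
    intro a
    rw [Subgroup.mem_normalizer_iff, Subgroup.mem_normalizer_iff]
    constructor
    · intro h1 x
      constructor
      · intro hx
        exact (h1 ⟨x, hTA hx⟩).1 hx
      · intro hx
        have h2 : x ∈ A := by
          have := A.mul_mem (A.mul_mem (A.inv_mem a.2) (hTA hx)) a.2
          have e : (a : G)⁻¹ * (a * x * (a : G)⁻¹) * a = x := by group
          rwa [e] at this
        exact (h1 ⟨x, h2⟩).2 hx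
    · intro h1 x
      exact h1 x
  refine ⟨fun g g' hg hg' => ?_, fun g hg => ?_⟩
  · obtain ⟨a, n, hn, rfl⟩ := hfr g
    obtain ⟨b, m, hm, rfl⟩ := hfr g'
    have ha : a ∉ Subgroup.normalizer (((T : Subgroup G).subgroupOf A : Subgroup A) : Set A) := fun h1 =>
      hg (Subgroup.mul_mem _ ((hmem a).1 h1) hn)
    have hb : b ∉ Subgroup.normalizer (((T : Subgroup G).subgroupOf A : Subgroup A) : Set A) := fun h1 =>
      hg' (Subgroup.mul_mem _ ((hmem b).1 h1) hm)
    obtain ⟨x, hx, h1⟩ := h.trans a b ha hb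
    refine ⟨x, hx, ?_⟩
    have h2 := (hmem _).1 h1
    have e : ((b : G) * m)⁻¹ * x * (a * n) = m⁻¹ * ((b⁻¹ * x * a : A) : G) * n := by
      simp only [Subgroup.coe_mul, Subgroup.coe_inv]
      group
    rw [e]
    exact Subgroup.mul_mem _ (Subgroup.mul_mem _ (Subgroup.inv_mem _ hm) h2) hn
  · obtain ⟨a, n, hn, rfl⟩ := hfr g
    have ha : a ∉ Subgroup.normalizer (((T : Subgroup G).subgroupOf A : Subgroup A) : Set A) := fun h1 =>
      hg (Subgroup.mul_mem _ ((hmem a).1 h1) hn)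
    obtain ⟨x, hx, y, hy, h1, h2⟩ := h.weyl a ha
    have hy' : n⁻¹ * (y : G) * n ∈ (T : Subgroup G) := by
      have h3 := Subgroup.inv_mem _ hn
      have := (Subgroup.mem_normalizer_iff.1 h3 (y : G)).1 hy
      rwa [inv_inv] at this
    refine ⟨x, hx, n⁻¹ * y * n, hy', ?_, ?_⟩
    · have e : ((a : G) * n)⁻¹ * (x * (a * n * (n⁻¹ * y * n) * ((a : G) * n)⁻¹) * x) =
          n⁻¹ * ((a⁻¹ * (x * (a * y * a⁻¹) * x) : A) : G) := by
        simp only [Subgroup.coe_mul, Subgroup.coe_inv]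
        group
      rw [e]
      exact Subgroup.mul_mem _ (Subgroup.inv_mem _ hn) ((hmem _).1 h1)
    · have e : (x : G) * (a * n * (n⁻¹ * y * n) * ((a : G) * n)⁻¹) * x * (a * n) =
          ((x * (a * y * a⁻¹) * x * a : A) : G) * n := by
        simp only [Subgroup.coe_mul, Subgroup.coe_inv]
        group
      rw [e]
      exact Subgroup.mul_mem _ ((hmem _).1 h2) hn

end Cfsg.Agent.H949.GT
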