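import Cfsg.Agent.H949.GT.Act
import Cfsg.Agent.H949.GT.Mat
import Cfsg.Agent.H949.GT.Rank
import Cfsg.Agent.H302.PU.InvSyl

/-!
# S5211, the short root parabolic (helper949): tools for `Par p (Q_a) Γ D`
-/

set_option autoImplicit false

namespace Cfsg.Agent.H949.GT

open Cfsg Cfsg.FusionSystem Cfsg.Agent.H756.PU Cfsg.Agent.H779.G2 Cfsg.Agent.H103.GT Cfsg.Agent.H802 Matrix

universe u

variable {K : Type u} [Field K] {p n : ℕ}

theorem Acts.isUnit {γ : MulAut (Qa K)} {M : Matrix (Fin 4) (Fin 4) K} {τ : K ≃+* K} {m : K} (h : Acts γ M τ m) :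
    IsUnit M := by
  rw [← Matrix.mulVec_surjective_iff_isUnit]
  intro v
  obtain ⟨g, hg⟩ := co_surj (K := K) v
  refine ⟨fun i => τ (co ((γ⁻¹ g : Qa K) : GU K) i), ?_⟩
  rw [← h.V, MulAut.apply_inv_self, hg]

theorem Acts.lin_inv {γ : MulAut (Qa K)} {M : Matrix (Fin 4) (Fin 4) K} {m : K} (h : Acts γ M (RingEquiv.refl K) m)
    (hm : m ≠ 0) : Acts γ⁻¹ M⁻¹ (RingEquiv.refl K) m⁻¹ := by
  have hu : IsUnit M.det := (Matrix.isUnit_iff_isUnit_det M).1 h.isUnit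
  have hV : ∀ g : Qa K, co ((γ⁻¹ g : Qa K) : GU K) = M⁻¹.mulVec (co (g : GU K)) := by
    intro g
    have h1 := h.V (γ⁻¹ g)
    rw [MulAut.apply_inv_self] at h1
    rw [h1]
    show _ = M⁻¹.mulVec (M.mulVec (co ((γ⁻¹ g : Qa K) : GU K)))
    rw [Matrix.mulVec_mulVec, Matrix.nonsing_inv_mul _ hu, Matrix.one_mulVec]
  refine ⟨hV, fun g hg => ?_⟩
  have h1 : ((γ⁻¹ g : Qa K) : GU K) ∈ Z1 K := by
    rw [← co_eq_zero, hV, co_eq_zero.2 hg, Matrix.mulVec_zero]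
  refine ⟨h1, ?_⟩
  have h2 := (h.Z _ h1).2
  rw [MulAut.apply_inv_self] at h2
  rw [h2]
  show _ = m⁻¹ * (m * ((γ⁻¹ g : Qa K) : GU K).f)
  rw [inv_mul_cancel_left₀ hm]

section

variable {Γ : Subgroup (MulAut (Qa K))} {D : Subgroup (MulAut (GU K))}

instance finite_aut [Finite K] : Finite (MulAut (Qa K)) := inferInstance

/-- `Aut_S(Q)` as a Sylow subgroup of `Γ` -/
theorem exists_sylowP (hK : HypG K p n) (hP : Par p (Qa K) Γ D) :
    haveI : Fact p.Prime := ⟨hK.pp⟩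
    ∃ T : Sylow p Γ, (T : Subgroup Γ) = (autInducedBy ⊤ (Qa K)).subgroupOf Γ := by
  have hfin := hK.fin
  have hfp : Fact p.Prime := ⟨hK.pp⟩
  have hG0 : IsPGroup p (⊤ : Subgroup (GU K)) := (stGrp hK).2.1
  have hG : IsPGroup p ↥((autInducedBy ⊤ (Qa K)).subgroupOf Γ) :=
    (isPGroup_autInducedBy hG0 (Qa K)).comap_of_injective Γ.subtype Γ.subtype_injective
  refine ⟨⟨(autInducedBy ⊤ (Qa K)).subgroupOf Γ, hG, fun {Q} hQ hle => ?_⟩, rfl⟩
  refine (Subgroup.eq_of_le_of_card_ge hle ?_).symm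
  obtain ⟨g, hg, hgQ⟩ := hP.syl (Q.map Γ.subtype) (Subgroup.map_subtype_le Q) (hQ.map _)
  have hmap : (Q.map Γ.subtype).map (MulAut.conj g).toMonoidHom ≤ autInducedBy ⊤ (Qa K) := by
    rintro _ ⟨x, hx, rfl⟩
    exact hgQ x hx
  have h1 := Subgroup.card_le_of_le hmap
  rw [Subgroup.card_map_of_injective (MulAut.conj g).injective,
    Subgroup.card_map_of_injective Γ.subtype_injective] at h1
  refine h1.trans (le_of_eq ?_)
  have := Subgroup.card_map_of_injective (K := (autInducedBy ⊤ (Qa K)).subgroupOf Γ) (f := Γ.subtype)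
    Γ.subtype_injective
  rw [← this, Subgroup.subgroupOf_map_subtype, inf_eq_left.2 hP.indu]

/-- `Aut_S(Q)` inside `Γ` -/
def TG (Γ : Subgroup (MulAut (Qa K))) : Subgroup Γ := (autInducedBy ⊤ (Qa K)).subgroupOf Γ

theorem mem_TG {γ : Γ} : γ ∈ TG Γ ↔ ∃ x : GU K, IsC x γ.1 := by
  rw [TG, Subgroup.mem_subgroupOf, mem_autInducedBy_iff]
  exact ⟨fun ⟨g, _, h⟩ => ⟨g, h⟩, fun ⟨g, h⟩ => ⟨g, trivial, h⟩⟩

theorem normAut_iff (hK : HypG K p n) (hP : Par p (Qa K) Γ D) (γ : Γ) :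
    NormAut ⊤ γ.1 ↔ γ ∈ Subgroup.normalizer ((TG Γ : Subgroup Γ) : Set Γ) := by
  have hfin := hK.fin
  constructor
  · intro h
    have h1 : (TG Γ).map (MulAut.conj γ).toMonoidHom ≤ TG Γ := by
      rintro _ ⟨x, hx, rfl⟩
      exact h x.1 hx
    rw [EvenType.StrongP.mem_norm]
    exact Subgroup.eq_of_le_of_card_ge h1 (by rw [Subgroup.card_map_of_injective (MulAut.conj γ).injective])
  · intro h x hx
    exact (Subgroup.mem_normalizer_iff.1 h ⟨x, hP.indu hx⟩).1 hx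

theorem three_ne (hK : HypG K p n) (h3 : p ≠ 3) : (3 : K) ≠ 0 := by
  have := hK.char
  intro h
  have h1 : ((3 : ℕ) : K) = 0 := by exact_mod_cast h
  rw [CharP.cast_eq_zero_iff K p] at h1
  exact h3 ((Nat.prime_dvd_prime_iff_eq hK.pp Nat.prime_three).1 h1)

/-- the elements of `D` -/
theorem exists_isTor (hK : HypG K p n) (h3 : p ≠ 3) (hP : Par p (Qa K) Γ D) {d : MulAut (GU K)} (hd : d ∈ D) :
    ∃ s t τ, IsTor d s t τ := by
  have hfin := hK.fin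
  rcases mem_TT (hP.D_le hd) with h | ⟨s, t, τ, α', ρ, -, hρ, -⟩
  · exact h
  · exact absurd hρ.three (three_ne hK h3)

/-- the restrictions of the elements of `D` -/
def DG (Γ : Subgroup (MulAut (Qa K))) (D : Subgroup (MulAut (GU K))) : Subgroup Γ where
  carrier := {γ | ∃ d ∈ D, IsR d γ.1}
  one_mem' := ⟨1, D.one_mem, fun _ => rfl⟩
  mul_mem' := by
    rintro γ γ' ⟨d, hd, h⟩ ⟨d', hd', h'⟩
    refine ⟨d * d', D.mul_mem hd hd', fun e => ?_⟩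
    show (((γ.1 (γ'.1 e)) : Qa K) : GU K) = d (d' e)
    rw [h, h']
  inv_mem' := by
    rintro γ ⟨d, hd, h⟩
    refine ⟨d⁻¹, D.inv_mem hd, fun e => ?_⟩
    have h1 := h (γ.1⁻¹ e)
    rw [MulAut.apply_inv_self] at h1
    show ((γ.1⁻¹ e : Qa K) : GU K) = d⁻¹ e
    rw [h1, MulAut.inv_apply_self]

theorem conj_isR {d : MulAut (GU K)} {γ α : MulAut (Qa K)} (hγ : IsR d γ) {x : GU K} (hα : IsC x α) :
    IsC (d x) (γ * α * γ⁻¹) := by
  intro e
  show ((γ (α (γ⁻¹ e)) : Qa K) : GU K) = _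
  rw [hγ, hα, map_mul, map_mul, map_inv, ← hγ, MulAut.apply_inv_self]

theorem DG_le (hK : HypG K p n) (hP : Par p (Qa K) Γ D) :
    DG Γ D ≤ Subgroup.normalizer ((TG Γ : Subgroup Γ) : Set Γ) := by
  rintro γ ⟨d, hd, hγ⟩
  rw [← normAut_iff hK hP]
  intro x hx
  obtain ⟨g, -, hg⟩ := (mem_autInducedBy_iff _ _ _).1 hx
  exact (mem_autInducedBy_iff _ _ _).2 ⟨d g, trivial, conj_isR hγ hg⟩

theorem DG_coprime (hK : HypG K p n) (hP : Par p (Qa K) Γ D) : (Nat.card (DG Γ D)).Coprime p := by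
  have hfin := hK.fin
  have hfp : Fact p.Prime := ⟨hK.pp⟩
  rw [Nat.coprime_comm, Nat.Prime.coprime_iff_not_dvd hK.pp]
  intro h
  obtain ⟨⟨γ, d, hd, hγ⟩, ho⟩ := exists_prime_orderOf_dvd_card' (G := ↥(DG Γ D)) p h
  have h1 : orderOf γ = p := by rw [← ho]; exact (Subgroup.orderOf_mk _ _).symm
  have h2 : ∀ k : ℕ, IsR (d ^ k) ((γ ^ k : Γ) : MulAut (Qa K)) := by
    intro k
    induction k with
    | zero => exact fun _ => rfl
    | succ k ih =>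
      intro e
      rw [pow_succ, pow_succ]
      show ((((γ ^ k : Γ) : MulAut (Qa K)) (γ.1 e) : Qa K) : GU K) = (d ^ k) (d e)
      rw [ih, hγ]
  have h3 : γ ^ orderOf d = 1 := by
    apply Subtype.ext
    apply MulEquiv.ext
    intro e
    apply Subtype.ext
    rw [h2, pow_orderOf_eq_one]
    rfl
  have h4 : p ∣ orderOf d := by
    rw [← h1]
    exact orderOf_dvd_of_pow_eq_one h3
  have h5 : p ∣ Nat.card D := by
    refine h4.trans ?_
    have : orderOf (⟨d, hd⟩ : D) = orderOf d := Subgroup.orderOf_mk _ _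
    rw [← this]
    exact orderOf_dvd_natCard _
  exact (Nat.Prime.coprime_iff_not_dvd hK.pp).1 (Nat.coprime_comm.1 hP.D_cop) h5

/-- `N_Γ(Aut_S(Q)) = Aut_S(Q) D` -/
theorem norm_dec (hP : Par p (Qa K) Γ D) (hK : HypG K p n) {γ : Γ}
    (hγ : γ ∈ Subgroup.normalizer ((TG Γ : Subgroup Γ) : Set Γ)) :
    ∃ c ∈ TG Γ, ∃ δ ∈ DG Γ D, γ = c * δ := by
  obtain ⟨x, d, hd, h⟩ := hP.norm γ.1 γ.2 ((normAut_iff hK hP γ).2 hγ)
  have hc : IsC x (MulAut.conjNormal x : MulAut (Qa K)) := fun e => MulAut.conjNormal_apply x e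
  have hcΓ : (MulAut.conjNormal x : MulAut (Qa K)) ∈ Γ :=
    hP.indu ((mem_autInducedBy_iff _ _ _).2 ⟨x, trivial, hc⟩)
  refine ⟨⟨_, hcΓ⟩, mem_TG.2 ⟨x, hc⟩, (⟨_, hcΓ⟩ : Γ)⁻¹ * γ, ⟨d, hd, fun e => ?_⟩, by rw [mul_inv_cancel_left]⟩
  show (((MulAut.conjNormal x : MulAut (Qa K))⁻¹ (γ.1 e) : Qa K) : GU K) = d e
  rw [← map_inv, MulAut.conjNormal_apply, h, inv_inv]
  group

theorem inn_acts {α : MulAut (Qa K)} (hα : α ∈ Inn (Qa K)) : Acts α 1 (RingEquiv.refl K) 1 := by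
  obtain ⟨x, rfl⟩ := hα
  have h1 : IsC (x : GU K) (MulAut.conj x) := fun _ => rfl
  have h2 := acts_conj h1
  have h3 : (x : GU K).a = 0 := x.2
  rw [h3, Xm_zero] at h2
  exact h2

end

end Cfsg.Agent.H949.GT
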