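import Cfsg.Agent.H949.GT.Lin
import Cfsg.Agent.H771.GT.CardOm

/-!
# S5211, the short root parabolic (helper949): the rank one property, `n ≥ 2`, `p ≥ 5`
-/

set_option autoImplicit false

namespace Cfsg.Agent.H949.GT

open Cfsg Cfsg.FusionSystem Cfsg.Agent.H756.PU Cfsg.Agent.H779.G2 Cfsg.Agent.H103.GT Cfsg.Agent.H802 Matrix

universe u

/-- `StU2` without its third conclusion -/
def StU2W : Prop :=
  ∀ {G : Type u} [Group G] [Finite G] {p n : ℕ} [Fact p.Prime] (P : Sylow p G), 5 ≤ p → 2 ≤ n →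
    (∀ g : G, g ∉ Subgroup.normalizer ((P : Subgroup G) : Set G) → ∀ x ∈ (P : Subgroup G), g * x * g⁻¹ ∈ (P : Subgroup G) →
      x = 1) →
    ¬ (P : Subgroup G).Normal → Nat.card P = p ^ n → (∀ x ∈ (P : Subgroup G), x ^ p = 1) →
    (∀ x ∈ (P : Subgroup G), ∀ y ∈ (P : Subgroup G), x * y = y * x) →
    (∀ x ∈ (P : Subgroup G), ∀ y ∈ (P : Subgroup G), x ≠ 1 → y ≠ 1 →
      ∃ g ∈ Subgroup.normalizer ((P : Subgroup G) : Set G), g * x * g⁻¹ = y) →
    Nat.card (Subgroup.normalClosure ((P : Subgroup G) : Set G)) ∣ (p ^ n) ^ 4 * ((p ^ n) ^ 2 - 1) * ((p ^ n) ^ 4 - 1) →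
    (∀ P' P'' : Sylow p G, P' ≠ P → P'' ≠ P → ∃ x ∈ (P : Subgroup G),
      (P' : Subgroup G).map (MulAut.conj x).toMonoidHom = P'') ∧
    (∀ P' : Sylow p G, P' ≠ P → ∃ x y : G, x ∈ (P : Subgroup G) ∧ x ≠ 1 ∧ y ∈ (P' : Subgroup G) ∧
      (P : Subgroup G).map (MulAut.conj (x * y * x)).toMonoidHom = P' ∧
      (P' : Subgroup G).map (MulAut.conj (x * y * x)).toMonoidHom = P)

theorem StU2W.of (h : StU2.{u}) : StU2W.{u} := by
  intro G _ _ p n _ P a1 a2 a3 a4 a5 a6 a7 a8 a9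
  exact ⟨(h P a1 a2 a3 a4 a5 a6 a7 a8 a9).1, (h P a1 a2 a3 a4 a5 a6 a7 a8 a9).2.1⟩

variable {K : Type u} [Field K] {p n : ℕ} {Γ : Subgroup (MulAut (Qa K))} {D : Subgroup (MulAut (GU K))}

/-- conjugation `GU K → Γ` -/
noncomputable def cN (hP : Par p (Qa K) Γ D) : GU K →* Γ :=
  (MulAut.conjNormal (H := Qa K)).codRestrict Γ fun x =>
    hP.indu ((mem_autInducedBy_iff _ _ _).2 ⟨x, trivial, fun e => MulAut.conjNormal_apply x e⟩)

theorem cN_isC (hP : Par p (Qa K) Γ D) (x : GU K) : IsC x (cN hP x).1 := fun e => MulAut.conjNormal_apply x e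

theorem isC_unique {x : GU K} {α β : MulAut (Qa K)} (h : IsC x α) (h' : IsC x β) : α = β := by
  apply MulEquiv.ext
  intro e
  apply Subtype.ext
  rw [h, h']

theorem mem_TG' (hP : Par p (Qa K) Γ D) {c : Γ} : c ∈ TG Γ ↔ ∃ x, c = cN hP x := by
  rw [mem_TG]
  constructor
  · rintro ⟨x, hx⟩
    exact ⟨x, Subtype.ext (isC_unique hx (cN_isC hP x))⟩
  · rintro ⟨x, rfl⟩
    exact ⟨x, cN_isC hP x⟩

theorem cN_mem_K0 (hP : Par p (Qa K) Γ D) (x : GU K) : cN hP x ∈ K0 Γ ↔ x.a = 0 := by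
  have h := acts_conj (cN_isC hP x)
  constructor
  · intro h1
    have h2 := (uniqV (γ := (cN hP x).1) (M := 1) (τ := RingEquiv.refl K) (fun g => by
      rw [Matrix.one_mulVec]
      exact h1 g) h.V 0 0 (by simp)).1
    rw [← Xm_zero] at h2
    exact (Xm_inj h2).symm
  · intro h1 g
    rw [h.V, h1, Xm_zero, Matrix.one_mulVec]
    rfl

/-- the coordinate `a` -/
def ha : GU K →* Multiplicative K where
  toFun x := Multiplicative.ofAdd x.a
  map_one' := rfl
  map_mul' x y := by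
    rw [GU.mul_a]
    rfl

theorem ha_ker : (ha : GU K →* Multiplicative K).ker = Qa K := by
  ext x
  exact Iff.rfl

theorem Qa_index : (Qa K).index = Nat.card K := by
  rw [← ha_ker, Subgroup.index_ker]
  have h : (ha : GU K →* Multiplicative K).range = ⊤ := by
    rw [MonoidHom.range_eq_top]
    intro t
    exact ⟨⟨Multiplicative.toAdd t, 0, 0, 0, 0, 0⟩, rfl⟩
  rw [h, Subgroup.card_top]
  rfl

theorem pow_p_a (hK : HypG K p n) (x : GU K) : (x ^ p).a = 0 := by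
  have hchar := hK.char
  have h1 : ha (x ^ p) = (ha x) ^ p := map_pow ha x p
  have h2 : (ha x) ^ p = 1 := by
    show Multiplicative.ofAdd (p • x.a) = 1
    rw [nsmul_eq_mul, CharP.cast_eq_zero, zero_mul]
    rfl
  exact h1.trans h2

theorem R1_ge2 (hU2 : StU2W.{u}) (hK : HypG K p n) (h5 : 5 ≤ p) (hn : 2 ≤ n)
    (hP : Par p (Qa K) Γ D) (hTI : TIAut (⊤ : Subgroup (GU K)) Γ) (hact : ∀ γ ∈ Γ, ∃ M τ m, m ≠ 0 ∧ Acts γ M τ m)
    (hTor : HasTor D (fun t => t⁻¹) (fun t => t ^ 2)) : R1 (TG Γ) := by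
  have hfin := hK.fin
  have hfp : Fact p.Prime := ⟨hK.pp⟩
  have hnor := K0_normal hact
  obtain ⟨T, hT⟩ := exists_sylowP hK hP
  have hT' : (T : Subgroup Γ) = TG Γ := hT
  obtain ⟨f, hfdef⟩ : ∃ f : Γ →* Γ ⧸ K0 Γ, f = QuotientGroup.mk' (K0 Γ) := ⟨_, rfl⟩
  have hf : Function.Surjective f := by rw [hfdef]; exact QuotientGroup.mk'_surjective _
  have hker : f.ker = K0 Γ := by rw [hfdef]; exact QuotientGroup.ker_mk' _
  obtain ⟨P, hPdef⟩ : ∃ P : Sylow p (Γ ⧸ K0 Γ), P = T.mapSurjective hf := ⟨_, rfl⟩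
  have hPc : (P : Subgroup (Γ ⧸ K0 Γ)) = (TG Γ).map f := by rw [hPdef, Sylow.coe_mapSurjective, hT']
  have hcom : (P : Subgroup (Γ ⧸ K0 Γ)).comap f = TG Γ := by
    rw [hPc, Subgroup.comap_map_eq, hker, sup_eq_left]
    exact K0_le hK hP hact
  have hnorm : ∀ γ : Γ, f γ ∈ Subgroup.normalizer ((P : Subgroup (Γ ⧸ K0 Γ)) : Set (Γ ⧸ K0 Γ)) ↔
      γ ∈ Subgroup.normalizer ((TG Γ : Subgroup Γ) : Set Γ) := by
    intro γ
    rw [← mem_norm_comap f hf, hcom]
  obtain ⟨φ, hφ⟩ : ∃ φ : GU K →* Γ ⧸ K0 Γ, φ = f.comp (cN hP) := ⟨_, rfl⟩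
  have hφa : ∀ x, φ x = f (cN hP x) := fun x => by rw [hφ]; rfl
  have hφrange : φ.range = (P : Subgroup (Γ ⧸ K0 Γ)) := by
    rw [hPc]
    ext y
    constructor
    · rintro ⟨x, rfl⟩
      rw [hφa]
      exact ⟨cN hP x, (mem_TG' hP).2 ⟨x, rfl⟩, rfl⟩
    · rintro ⟨c, hc, rfl⟩
      obtain ⟨x, rfl⟩ := (mem_TG' hP).1 hc
      exact ⟨x, hφa x⟩
  have hφker : φ.ker = Qa K := by
    ext x
    rw [MonoidHom.mem_ker, hφa, ← MonoidHom.mem_ker, hker, cN_mem_K0]
    exact Iff.rfl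
  have hφeq : ∀ x y : GU K, x.a = y.a → φ x = φ y := by
    intro x y hxy
    have h1 : x⁻¹ * y ∈ φ.ker := by
      rw [hφker]
      show (x⁻¹ * y).a = 0
      rw [GU.mul_a, GU.inv_a, hxy]
      ring
    have h2 : φ (x⁻¹ * y) = 1 := h1
    rw [map_mul, map_inv] at h2
    exact (inv_mul_eq_one.1 h2)
  have hmemP : ∀ y ∈ (P : Subgroup (Γ ⧸ K0 Γ)), ∃ x : GU K, φ x = y := by
    intro y hy
    rw [← hφrange] at hy
    exact hy
  have key := hU2 P h5 hn
    (by
      intro g hg x hx hgx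
      obtain ⟨γ, rfl⟩ := hf g
      rw [hnorm] at hg
      obtain ⟨z, rfl⟩ := hmemP x hx
      rw [hφa] at hgx ⊢
      rw [← map_inv, ← map_mul, ← map_mul] at hgx
      have h1 : γ * cN hP z * γ⁻¹ ∈ TG Γ := by
        rw [← hcom]
        exact hgx
      have h2 : (cN hP z).1 ∈ Inn (Qa K) := by
        by_contra hcon
        have h3 := hTI γ.1 γ.2 (cN hP z).1 ((mem_TG' hP).2 ⟨z, rfl⟩) hcon h1
        exact hg ((normAut_iff hK hP γ).1 h3)
      have h3 := inn_acts h2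
      have h4 : cN hP z ∈ K0 Γ := by
        intro g
        rw [h3.V, Matrix.one_mulVec]
        rfl
      rw [← hker] at h4
      exact h4)
    (by
      intro hnor'
      apply hP.nn
      intro γ hγ
      refine (normAut_iff hK hP ⟨γ, hγ⟩).2 ?_
      rw [← hnorm, Subgroup.normalizer_eq_top]
      trivial)
    (by
      have h1 : φ.ker.index = Nat.card K := by rw [hφker, Qa_index]
      rw [Subgroup.index_ker, hφrange] at h1
      exact h1.trans hK.card)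
    (by
      intro x hx
      obtain ⟨z, rfl⟩ := hmemP x hx
      rw [← map_pow, hφeq (z ^ p) 1 (pow_p_a hK z), map_one])
    (by
      intro x hx y hy
      obtain ⟨z, rfl⟩ := hmemP x hx
      obtain ⟨z', rfl⟩ := hmemP y hy
      rw [← map_mul, ← map_mul]
      apply hφeq
      rw [GU.mul_a, GU.mul_a, add_comm])
    (by
      intro x hx y hy hx1 hy1
      obtain ⟨z, rfl⟩ := hmemP x hx
      obtain ⟨z', rfl⟩ := hmemP y hy
      have hz : z.a ≠ 0 := fun h => hx1 (by rw [hφeq z 1 h, map_one])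
      have hz' : z'.a ≠ 0 := fun h => hy1 (by rw [hφeq z' 1 h, map_one])
      obtain ⟨d, hd, δ, hdT, hdR, hδD, hδ⟩ := exists_delta hP hTor (div_ne_zero hz hz')
      refine ⟨f δ, (hnorm δ).2 (DG_le hK hP hδD), ?_⟩
      have h1 : δ * cN hP z * δ⁻¹ = cN hP (d z) :=
        Subtype.ext (isC_unique (conj_isR hdR (cN_isC hP z)) (cN_isC hP (d z)))
      rw [hφa, ← map_inv, ← map_mul, ← map_mul, h1, ← hφa]
      apply hφeq
      rw [hdT.a]
      show (z.a / z'.a)⁻¹ * z.a = z'.a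
      field_simp)
    (by
      have h1 : Subgroup.normalClosure ((P : Subgroup (Γ ⧸ K0 Γ)) : Set (Γ ⧸ K0 Γ)) ≤ (G0 Γ).map f := by
        have : ((G0 Γ).map f).Normal := by
          refine ⟨fun y hy g => ?_⟩
          obtain ⟨y, hy, rfl⟩ := hy
          obtain ⟨g, rfl⟩ := hf g
          refine ⟨g * y * g⁻¹, G0_conj hact g hy, ?_⟩
          rw [map_mul, map_mul, map_inv]
        apply Subgroup.normalClosure_le_normal
        rw [hPc]
        exact Subgroup.map_mono TG_le_G0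
      refine (Subgroup.card_dvd_of_le h1).trans ?_
      have h2 : Nat.card ((G0 Γ).map f) = Nat.card (lin Γ).range := by
        have h3 : (G0 Γ).map f = (f.comp (G0 Γ).subtype).range := by
          rw [MonoidHom.range_comp, Subgroup.range_subtype]
        rw [h3, ← Subgroup.index_ker, ← Subgroup.index_ker, lin_ker, ← MonoidHom.comap_ker, hker]
        rfl
      rw [h2, ← hK.card]
      refine H771.GT.card_om (three_ne hK (by omega)) _ ?_
      rintro _ ⟨γ, rfl⟩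
      exact lin_form γ)
  have h1 := R1.of_sylow P key.1 key.2
  have h2 := h1.comap f hf
  rwa [hcom] at h2

end Cfsg.Agent.H949.GT
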